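import Groth.Agent.Desc.K388.DDGrpd
import Groth.Agent.Desc.BaseOpenDD
import Groth.Agent.Desc.AffineEff
import Groth.Agent.FlatA.FinsetAffine
import Groth.Agent.S1881

/-!
# Effectivity of descent data relative to finite locally free morphisms
-/

set_option autoImplicit false
set_option backward.isDefEq.respectTransparency false
set_option backward.isDefEq.respectTransparency.types false
open CategoryTheory CategoryTheory.Limits AlgebraicGeometry
universe u

namespace K388.FinLFEff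

open _root_.Desc Groth.Agent.Desc.SecFunctor Groth.Agent.Desc.StableDD Groth.Agent.Desc.BaseOpenDD
open K388.DDGrpd

variable {X S : Scheme.{u}} {p : X ⟶ S}

/-- The orbit of the point `v` lies in `U`. -/
def OrbIn (D : SchDD p) (v : D.obj.left) (U : Set D.obj.left) : Prop :=
  ∀ ⦃T : Scheme.{u}⦄ (x₀ x₁ : T ⟶ X) (h : x₀ ≫ p = x₁ ≫ p) (w : Lifts D.obj x₀) (t : T),
    w.1 t = v → (D.φ x₀ x₁ h w).1 t ∈ U

theorem orbIn_iff (D : SchDD p) (v : D.obj.left) (U : Set D.obj.left) :
    OrbIn D v U ↔ ∀ r : R D, src D r = v → tgt D r ∈ U := by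
  constructor
  · intro h r hr
    exact h (src D ≫ D.obj.hom) (pt D) (src_pt D) ⟨src D, rfl⟩ r hr
  · intro h T x₀ x₁ hx w t hw
    obtain ⟨w, rfl⟩ := w
    rw [φ_eq_tr]
    have h1 := lift_tgt D w x₁ (by rw [← hx, Category.assoc])
    have h2 := pullback.lift_fst (f := D.obj.hom ≫ p) (g := p) w x₁ (by rw [← hx, Category.assoc])
    generalize pullback.lift (f := D.obj.hom ≫ p) (g := p) w x₁ _ = r at h1 h2
    have h3 : tgt D (r t) ∈ U := by
      refine h _ ?_
      show (r ≫ src D) t = v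
      exact (congrArg (fun f : T ⟶ D.obj.left => f t) h2).trans hw
    have h4 : (r ≫ tgt D) t ∈ U := h3
    rw [h1] at h4
    exact h4

/-- The orbit of a point of a stable open stays in the stable open. -/
theorem orbIn_of_isStable {D : SchDD p} {W : D.obj.left.Opens} (hW : IsStable D W) {v : D.obj.left} (hv : v ∈ W) :
    OrbIn D v W := fun T x₀ x₁ h w t hw => by
  have := (hW x₀ x₁ h w t)
  rw [hw] at this
  exact this hv

theorem OrbIn.inter {D : SchDD p} {v : D.obj.left} {U U' : Set D.obj.left} (h : OrbIn D v U) (h' : OrbIn D v U') :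
    OrbIn D v (U ∩ U') := fun _ x₀ x₁ hx w t hw => ⟨h x₀ x₁ hx w t hw, h' x₀ x₁ hx w t hw⟩

theorem OrbIn.self {D : SchDD p} {v : D.obj.left} {U : Set D.obj.left} (h : OrbIn D v U) : v ∈ U := by
  have h1 := (orbIn_iff D v U).1 h (one D v) (by
    rw [← Scheme.Hom.comp_apply, one_src]; rfl)
  rw [← Scheme.Hom.comp_apply, one_tgt] at h1
  exact h1

theorem OrbIn.restrict {D : SchDD p} {W : D.obj.left.Opens} (hW : IsStable D W) {v : W.toScheme}
    {U : Set D.obj.left} (h : OrbIn D (W.ι v) U) : OrbIn (restrict D W hW) v (W.ι ⁻¹' U) := by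
  intro T x₀ x₁ hx w t hw
  have h1 := restrict_φ D W hW x₀ x₁ hx w
  show (((Groth.Agent.Desc.StableDD.restrict D W hW).φ x₀ x₁ hx w).1 ≫ W.ι) t ∈ U
  rw [h1]
  refine h x₀ x₁ hx _ t ?_
  show W.ι (w.1 t) = _
  rw [hw]

theorem OrbIn.baseMono {X₀ S₀ : Scheme.{u}} {i : X₀ ⟶ X} {p₀ : X₀ ⟶ S₀} {j : S₀ ⟶ S}
    (H : IsPullback i p₀ p j) [Mono i] {D : SchDD p} (v₀ : D.obj.left ⟶ X₀)
    (hv : v₀ ≫ i = D.obj.hom) {v : D.obj.left} {U : Set D.obj.left} (h : OrbIn D v U) :
    OrbIn (baseMono H D v₀ hv) v U := by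
  intro T x₀ x₁ hx w t hw
  exact h (x₀ ≫ i) (x₁ ≫ i) _ ⟨w.1, _⟩ t hw

/-- The preimage of an open of the base is stable. -/
theorem isStable_preimage (D : SchDD p) (O : S.Opens) : IsStable D ((D.obj.hom ≫ p) ⁻¹ᵁ O) := by
  intro T x₀ x₁ h v t ht
  show (D.obj.hom ≫ p) _ ∈ O
  have h1 : ((D.φ x₀ x₁ h v).1 ≫ D.obj.hom) ≫ p = (v.1 ≫ D.obj.hom) ≫ p := by
    rw [(D.φ x₀ x₁ h v).2, v.2, h]
  have h2 : (D.obj.hom ≫ p) ((D.φ x₀ x₁ h v).1 t) = (D.obj.hom ≫ p) (v.1 t) := by
    rw [← Scheme.Hom.comp_apply, ← Scheme.Hom.comp_apply, ← Category.assoc, ← Category.assoc, h1]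
  rw [h2]
  exact ht

/-- The affine case. -/
theorem effective_of_affine [IsAffine S] [Surjective p] [IsFinite p] [Flat p] [LocallyOfFinitePresentation p]
    (D : SchDD p) (hD : ∀ v : D.obj.left, ∃ U : D.obj.left.Opens, IsAffineOpen U ∧ OrbIn D v U) :
    ∃ U : Over S, Nonempty ((toDD p).obj U ≅ D) := by
  have hX : IsAffine X := isAffine_of_isAffineHom p
  have h1 : IsFinite (grpd D).s := src_of D @IsFinite ‹_›
  have h2 : Flat (grpd D).s := src_of D @Flat ‹_›
  have h3 : LocallyOfFinitePresentation (grpd D).s := src_of D @LocallyOfFinitePresentation ‹_›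
  have h4 : IsFinite (grpd D).t := tgt_of D @IsFinite ‹_›
  have h5 : Flat (grpd D).t := tgt_of D @Flat ‹_›
  have h6 : LocallyOfFinitePresentation (grpd D).t := tgt_of D @LocallyOfFinitePresentation ‹_›
  have key : ∀ v : D.obj.left, ∃ W : D.obj.left.Opens, IsAffineOpen W ∧ v ∈ W ∧ IsStable D W := by
    intro v
    obtain ⟨U, hU, hv⟩ := hD v
    rw [orbIn_iff] at hv
    obtain ⟨W, hW, hvW, hst⟩ := Groth.Agent.S1881.result S (grpd D) v U hU hv
    exact ⟨W, hW, hvW, (isStable_iff D W).2 hst⟩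
  choose W hW hvW hst using key
  have h8 : (toDD p).Full := Groth.Agent.Desc.AffineEff.toDD_full p
  have h9 : (toDD p).Faithful := Groth.Agent.Desc.AffineEff.toDD_faithful p
  have hq : ∀ T : Over S, Topology.IsQuotientMap (pullback.snd p T.hom).base :=
    fun T => Flat.isQuotientMap_of_surjective _
  refine effective_of_cover D hq W hst (fun v => ⟨v, hvW v⟩) fun v => ?_
  have haff : IsAffine (Groth.Agent.Desc.StableDD.restrict D (W v) (hst v)).obj.left := hW v
  have h7 : IsAffineHom (Groth.Agent.Desc.StableDD.restrict D (W v) (hst v)).obj.hom := inferInstance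
  exact Groth.Agent.Desc.AffineEff.affine_effective _ _

/-- The orbit of a point is finite. -/
theorem orb_finite [IsFinite p] (D : SchDD p) (v : D.obj.left) : {r : R D | src D r = v}.Finite := by
  have h1 : IsFinite (src D) := src_of D @IsFinite ‹_›
  exact (src D).finite_preimage_singleton v

/-- The general case. -/
theorem effective_of_orbits [Surjective p] [IsFinite p] [Flat p] [LocallyOfFinitePresentation p]
    (D : SchDD p) (hD : ∀ v : D.obj.left, ∃ U : D.obj.left.Opens, IsAffineOpen U ∧ OrbIn D v U) :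
    ∃ U : Over S, Nonempty ((toDD p).obj U ≅ D) := by
  classical
  have h8 : (toDD p).Full := Groth.Agent.Desc.AffineEff.toDD_full p
  have h9 : (toDD p).Faithful := Groth.Agent.Desc.AffineEff.toDD_faithful p
  have hq : ∀ T : Over S, Topology.IsQuotientMap (pullback.snd p T.hom).base :=
    fun T => Flat.isQuotientMap_of_surjective _
  refine effective_of_cover D hq (fun O : S.affineOpens => (D.obj.hom ≫ p) ⁻¹ᵁ O.1)
    (fun O => isStable_preimage D O.1) (fun v => ?_) fun O => ?_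
  · obtain ⟨O, hO, hv, -⟩ := TopologicalSpace.Opens.isBasis_iff_nbhd.mp S.isBasis_affineOpens
      (TopologicalSpace.Opens.mem_top ((D.obj.hom ≫ p) v))
    exact ⟨⟨O, hO⟩, hv⟩
  have hst := isStable_preimage D O.1
  let D' := Groth.Agent.Desc.StableDD.restrict D _ hst
  have hV' : ∀ v : D'.obj.left, ∃ U : D'.obj.left.Opens, IsAffineOpen U ∧ OrbIn D' v U := by
    intro v
    let W : D.obj.left.Opens := (D.obj.hom ≫ p) ⁻¹ᵁ O.1
    have hvW : W.ι v ∈ W := (mem_range_ι W _).mp ⟨v, rfl⟩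
    obtain ⟨U, hU, hv⟩ := hD (W.ι v)
    have hv2 := hv.inter (orbIn_of_isStable hst hvW)
    have hUa : IsAffine U.toScheme := hU
    have hv3 := (orbIn_iff _ _ _).1 hv2
    -- the orbit as a finite subset of `U`
    let F : Finset D.obj.left := (orb_finite D (W.ι v)).toFinset.image (tgt D)
    have hF : ∀ x ∈ F, x ∈ U ∧ x ∈ W := by
      intro x hx
      obtain ⟨r, hr, rfl⟩ := Finset.mem_image.mp hx
      rw [Set.Finite.mem_toFinset] at hr
      exact hv3 r hr
    obtain ⟨g, hg1, hg2⟩ := Groth.Agent.FlatA.FinsetAffine.exists_basicOpen_of_finset (Z := U.toScheme)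
      (U.ι ⁻¹ᵁ W) (F.preimage U.ι (U.ι.isOpenEmbedding.injective.injOn)) (by
        intro x hx
        exact (hF _ (Finset.mem_preimage.mp hx)).2)
    have hB : IsAffineOpen (U.toScheme.basicOpen g) := (isAffineOpen_top _).basicOpen g
    have hB2 : IsAffineOpen (U.ι ''ᵁ U.toScheme.basicOpen g) := hB.image_of_isOpenImmersion U.ι
    have hBW : (U.ι ''ᵁ U.toScheme.basicOpen g) ≤ W := by
      rintro _ ⟨x, hx, rfl⟩
      exact hg2 hx
    refine ⟨W.ι ⁻¹ᵁ (U.ι ''ᵁ U.toScheme.basicOpen g), ?_, ?_⟩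
    · refine hB2.preimage_of_isOpenImmersion W.ι ?_
      rw [Scheme.Opens.opensRange_ι]
      exact hBW
    · suffices hh : OrbIn D (W.ι v) (U.ι ''ᵁ U.toScheme.basicOpen g : D.obj.left.Opens) from
        OrbIn.restrict hst hh
      rw [orbIn_iff]
      intro r hr
      have h1 := hv3 r hr
      have h2 : tgt D r ∈ F := Finset.mem_image.mpr ⟨r, by rwa [Set.Finite.mem_toFinset], rfl⟩
      obtain ⟨x, hx⟩ : ∃ x : U.toScheme, U.ι x = tgt D r := (mem_range_ι U _).2 h1.1
      rw [← hx]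
      refine ⟨x, hg1 x ?_, rfl⟩
      rw [Finset.mem_preimage, hx]
      exact h2
  let v₀ : D'.obj.left ⟶ (p ⁻¹ᵁ O.1).toScheme := liftOpen (p ⁻¹ᵁ O.1) D'.obj.hom (by
    intro t
    exact (mem_range_ι ((D.obj.hom ≫ p) ⁻¹ᵁ O.1) _).mp ⟨t, rfl⟩)
  have hv : v₀ ≫ (p ⁻¹ᵁ O.1).ι = D'.obj.hom := liftOpen_ι _ _ _
  have H : IsPullback (p ⁻¹ᵁ O.1).ι (p ∣_ O.1) p O.1.ι := (isPullback_morphismRestrict p O.1).flip
  have haff' : IsAffine O.1.toScheme := O.2
  have hsurj : Surjective (p ∣_ O.1) := MorphismProperty.of_isPullback H ‹Surjective p›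
  have hfin : IsFinite (p ∣_ O.1) := MorphismProperty.of_isPullback H ‹IsFinite p›
  have hflat : Flat (p ∣_ O.1) := MorphismProperty.of_isPullback H ‹Flat p›
  have hlfp : LocallyOfFinitePresentation (p ∣_ O.1) :=
    MorphismProperty.of_isPullback H ‹LocallyOfFinitePresentation p›
  refine effective_of_baseMono H D' v₀ hv ?_
  refine effective_of_affine _ fun v => ?_
  obtain ⟨U, hU, hvU⟩ := hV' v
  exact ⟨U, hU, OrbIn.baseMono H v₀ hv hvU⟩

/-- The points of an orbit lie over one point of the base. -/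
theorem orb_over (D : SchDD p) (r : R D) : p (D.obj.hom (tgt D r)) = p (D.obj.hom (src D r)) := by
  have h := congrArg (fun f : R D ⟶ S => f r) (cond' D)
  exact h

/-- Effectivity when finite sets of points in one fibre are contained in affine opens. -/
theorem effective_of_fibres [Surjective p] [IsFinite p] [Flat p] [LocallyOfFinitePresentation p]
    (D : SchDD p)
    (hV : ∀ (y : S) (s : Finset D.obj.left), (∀ v ∈ s, p (D.obj.hom v) = y) →
      ∃ U : D.obj.left.Opens, IsAffineOpen U ∧ ∀ v ∈ s, v ∈ U) :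
    ∃ U : Over S, Nonempty ((toDD p).obj U ≅ D) := by
  classical
  refine effective_of_orbits D fun v => ?_
  obtain ⟨U, hU, h⟩ := hV (p (D.obj.hom v)) ((orb_finite D v).toFinset.image (tgt D)) (by
    intro x hx
    obtain ⟨r, hr, rfl⟩ := Finset.mem_image.mp hx
    rw [Set.Finite.mem_toFinset] at hr
    rw [orb_over]
    exact congrArg (fun z => p (D.obj.hom z)) hr)
  refine ⟨U, hU, (orbIn_iff _ _ _).2 fun r hr => h _ ?_⟩
  exact Finset.mem_image.mpr ⟨r, by rwa [Set.Finite.mem_toFinset], rfl⟩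

end K388.FinLFEff
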