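import Groth.Agent.Desc.K388.GermSp
import Mathlib.AlgebraicGeometry.Morphisms.QuasiSeparated
import Mathlib.AlgebraicGeometry.Morphisms.OpenImmersion

/-!
# Opens contained in the members of a decreasing sequence map isomorphically to opens of the spectrum
-/

set_option autoImplicit false
open CategoryTheory CategoryTheory.Limits AlgebraicGeometry
universe u

namespace K388.Germ

variable {Y : Scheme.{u}}

/-- restriction of functions -/
noncomputable def rs {U V : Y.Opens} (h : V ≤ U) : Γ(Y, U) →+* Γ(Y, V) := (Y.presheaf.map (homOfLE h).op).hom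

theorem rs_rs {U V W : Y.Opens} (h : V ≤ U) (h' : W ≤ V) (x : Γ(Y, U)) : rs h' (rs h x) = rs (h'.trans h) x := by
  show (Y.presheaf.map (homOfLE h').op).hom ((Y.presheaf.map (homOfLE h).op).hom x) = _
  rw [← CommRingCat.comp_apply, ← Y.presheaf.map_comp]
  rfl

theorem basicOpen_rs {U V : Y.Opens} (h : V ≤ U) (x : Γ(Y, U)) : Y.basicOpen (rs h x) = V ⊓ Y.basicOpen x :=
  Scheme.basicOpen_res _ _ _

/-- evaluation on an open contained in all members of the sequence -/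
noncomputable def evO (O : Sq Y) (B : Y.Opens) (h : ∀ n, B ≤ O.W n) : G O →+* Γ(Y, B) :=
  lift O (fun n => rs (h n)) (fun _ j hij x => rs_rs (O.anti hij) (h j) x)

theorem evO_of (O : Sq Y) (B : Y.Opens) (h : ∀ n, B ≤ O.W n) (n : ℕ) (x : Γ(Y, O.W n)) :
    evO O B h (of O n x) = rs (h n) x := lift_of _ _ _ _ _

theorem exists_pow_mul_eq_zero [QuasiSeparatedSpace Y] {U : Y.Opens} (hU : IsCompact (U : Set Y)) (x f : Γ(Y, U))
    (B : Y.Opens) (hB : B = Y.basicOpen f) (h : B ≤ U) (hx : rs h x = 0) : ∃ n : ℕ, f ^ n * x = 0 := by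
  subst hB
  exact exists_pow_mul_eq_zero_of_res_basicOpen_eq_zero_of_isCompact Y hU x f hx

theorem exists_eq_pow_mul [QuasiSeparatedSpace Y] {U : Y.Opens} (hU : IsCompact (U : Set Y)) (f : Γ(Y, U))
    (B : Y.Opens) (hB : B = Y.basicOpen f) (h : B ≤ U) (x : Γ(Y, B)) :
    ∃ (n : ℕ) (y : Γ(Y, U)), rs h y = rs h f ^ n * x := by
  subst hB
  exact exists_eq_pow_mul_of_isCompact_of_isQuasiSeparated Y U hU (IsQuasiSeparated.of_quasiSeparatedSpace _) f x

theorem isUnit_rs {U : Y.Opens} (f : Γ(Y, U)) (B : Y.Opens) (hB : B = Y.basicOpen f) (h : B ≤ U) :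
    IsUnit (rs h f) := by
  subst hB
  exact RingedSpace.isUnit_res_basicOpen _ f

theorem isLocalization_evO [QuasiSeparatedSpace Y] (O : Sq Y) (hO : ∀ n, IsCompact (O.W n : Set Y))
    (f : Γ(Y, O.W 0)) (B : Y.Opens) (hB : B = Y.basicOpen f) (h : ∀ n, B ≤ O.W n) :
    @IsLocalization.Away (G O) _ (of O 0 f) Γ(Y, B) _ (evO O B h).toAlgebra := by
  let _ := (evO O B h).toAlgebra
  have hm : ∀ x, algebraMap (G O) Γ(Y, B) x = evO O B h x := fun _ => rfl
  have hBn : ∀ n, B = Y.basicOpen (res O 0 n (Nat.zero_le n) f) := fun n => by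
    have h1 : Y.basicOpen (res O 0 n (Nat.zero_le n) f) = O.W n ⊓ Y.basicOpen f :=
      basicOpen_rs (O.anti (Nat.zero_le n)) f
    rw [h1, ← hB]
    exact (inf_eq_right.2 (h n)).symm
  constructor
  constructor
  · rintro ⟨_, n, rfl⟩
    show IsUnit (algebraMap _ _ ((of O 0 f) ^ n))
    rw [map_pow, hm, evO_of]
    exact (isUnit_rs f B hB (h 0)).pow n
  · intro z
    obtain ⟨n, y, hy⟩ := exists_eq_pow_mul (hO 0) f B hB (h 0) z
    refine ⟨⟨of O 0 y, ⟨_, n, rfl⟩⟩, ?_⟩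
    show z * algebraMap _ _ ((of O 0 f) ^ n) = algebraMap _ _ (of O 0 y)
    rw [map_pow, hm, hm, evO_of, evO_of, hy, mul_comm]
  · intro x y hxy
    obtain ⟨n, z, hz⟩ := exists_of O (x - y)
    have h1 : rs (h n) z = 0 := by
      rw [← evO_of O B h n z, hz, map_sub, ← hm, ← hm, hxy, sub_self]
    obtain ⟨k, hk⟩ := exists_pow_mul_eq_zero (hO n) z (res O 0 n (Nat.zero_le n) f) B (hBn n) (h n) h1
    have h2 := congrArg (of O n) hk
    rw [map_mul, map_pow, of_res, map_zero, hz, mul_sub, sub_eq_zero] at h2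
    exact ⟨⟨_, k, rfl⟩, h2⟩

theorem ev_eq (O : Sq Y) (B : Y.Opens) (h : ∀ n, B ≤ O.W n) (h' : ∀ n, (⊤ : B.toScheme.Opens) ≤ B.ι ⁻¹ᵁ O.W n) :
    CommRingCat.ofHom (ev O B.ι h') = CommRingCat.ofHom (evO O B h) ≫ B.topIso.inv := by
  have : ev O B.ι h' = B.topIso.inv.hom.comp (evO O B h) := by
    apply hom_ext
    intro n x
    rw [RingHom.comp_apply, ev_of, evO_of]
    show _ = B.topIso.inv.hom ((Y.presheaf.map _).hom x)
    rw [← CommRingCat.comp_apply]
    have h2 : B.ι.appLE (O.W n) ⊤ (h' n) = Y.presheaf.map (homOfLE (h n)).op ≫ B.topIso.inv := by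
      rw [Scheme.Opens.ι_appLE, Scheme.Opens.topIso_inv]
      exact Y.presheaf.map_comp _ _
    exact congrArg (fun e => e.hom x) h2
  rw [this]
  rfl

theorem isOpenImmersion_basicOpen [QuasiSeparatedSpace Y] (O : Sq Y) (hO : ∀ n, IsCompact (O.W n : Set Y))
    (f : Γ(Y, O.W 0)) (B : Y.Opens) (hB : B = Y.basicOpen f) (hBa : IsAffineOpen B) (h : ∀ n, B ≤ O.W n)
    (h' : ∀ n, (⊤ : B.toScheme.Opens) ≤ B.ι ⁻¹ᵁ O.W n) : IsOpenImmersion (toSp O B.ι h') := by
  have h1 : IsAffine B.toScheme := hBa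
  have h2 : IsOpenImmersion (Spec.map (CommRingCat.ofHom (evO O B h))) := by
    let _ := (evO O B h).toAlgebra
    have h3 : IsLocalization.Away (of O 0 f) Γ(Y, B) := isLocalization_evO O hO f B hB h
    exact IsOpenImmersion.of_isLocalization (of O 0 f)
  rw [toSp, ev_eq O B h h', Spec.map_comp]
  infer_instance

theorem toSp_preimage {T : Scheme.{u}} (O : Sq Y) (g : T ⟶ Y) (h : ∀ n, (⊤ : T.Opens) ≤ g ⁻¹ᵁ O.W n) (f : Γ(Y, O.W 0)) :
    toSp O g h ⁻¹ᵁ (PrimeSpectrum.basicOpen (of O 0 f)) = g ⁻¹ᵁ Y.basicOpen f := by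
  have h1 : toSp O g h ⁻¹ᵁ (PrimeSpectrum.basicOpen (of O 0 f)) =
      T.toSpecΓ ⁻¹ᵁ PrimeSpectrum.basicOpen (ev O g h (of O 0 f)) := rfl
  refine h1.trans ?_
  rw [Scheme.toSpecΓ_preimage_basicOpen, ev_of, Scheme.basicOpen_appLE]
  exact inf_eq_right.2 le_top

/-- The morphism to the spectrum is an open immersion on opens which are unions of suitable basic opens. -/
theorem isOpenImmersion_toSp [QuasiSeparatedSpace Y] (O : Sq Y) (hO : ∀ n, IsCompact (O.W n : Set Y))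
    (T : Y.Opens) (hT : ∀ n, T ≤ O.W n)
    (hf : ∀ t ∈ T, ∃ f : Γ(Y, O.W 0), t ∈ Y.basicOpen f ∧ Y.basicOpen f ≤ T ∧ IsAffineOpen (Y.basicOpen f))
    (h' : ∀ n, (⊤ : T.toScheme.Opens) ≤ T.ι ⁻¹ᵁ O.W n) : IsOpenImmersion (toSp O T.ι h') := by
  have hmem : ∀ t : T.toScheme, T.ι t ∈ T := fun t => by
    rw [← SetLike.mem_coe, ← Scheme.Opens.range_ι]
    exact ⟨t, rfl⟩
  have key : ∀ (f : Γ(Y, O.W 0)) (hle : Y.basicOpen f ≤ T), IsAffineOpen (Y.basicOpen f) →
      IsOpenImmersion (Y.homOfLE hle ≫ toSp O T.ι h') := by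
    intro f hle ha
    have h1 : ∀ n, (⊤ : (Y.basicOpen f).toScheme.Opens) ≤ (Y.basicOpen f).ι ⁻¹ᵁ O.W n := fun n x _ => by
      refine hT n (hle ?_)
      rw [← SetLike.mem_coe, ← Scheme.Opens.range_ι]
      exact ⟨x, rfl⟩
    have h2 : Y.homOfLE hle ≫ toSp O T.ι h' = toSp O (Y.basicOpen f).ι h1 := by
      rw [comp_toSp T.ι h' (Y.homOfLE hle) (by rw [Scheme.homOfLE_ι]; exact h1)]
      exact toSp_congr (Scheme.homOfLE_ι _ _) _ _
    rw [h2]
    exact isOpenImmersion_basicOpen O hO f _ rfl ha (fun n => hle.trans (hT n)) h1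
  have hrange : ∀ (f : Γ(Y, O.W 0)) (hle : Y.basicOpen f ≤ T) (t : T.toScheme), T.ι t ∈ Y.basicOpen f →
      ∃ s : (Y.basicOpen f).toScheme, Y.homOfLE hle s = t := by
    intro f hle t ht
    rw [← SetLike.mem_coe, ← Scheme.Opens.range_ι] at ht
    obtain ⟨s, hs⟩ := ht
    refine ⟨s, T.ι.isOpenEmbedding.injective ?_⟩
    rw [← hs]
    show (Y.homOfLE hle ≫ T.ι) s = _
    rw [Scheme.homOfLE_ι]
  refine IsOpenImmersion.of_forall_source_exists _ ?_ ?_
  · intro t t' htt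
    obtain ⟨f, hft, hle, ha⟩ := hf _ (hmem t)
    have h1 : T.ι t' ∈ Y.basicOpen f := by
      have h2 : t ∈ toSp O T.ι h' ⁻¹ᵁ (PrimeSpectrum.basicOpen (of O 0 f)) := by
        rw [toSp_preimage]; exact hft
      have h3 : t' ∈ toSp O T.ι h' ⁻¹ᵁ (PrimeSpectrum.basicOpen (of O 0 f)) := by
        show toSp O T.ι h' t' ∈ PrimeSpectrum.basicOpen (of O 0 f)
        rw [← htt]
        exact h2
      rw [toSp_preimage] at h3
      exact h3
    obtain ⟨s, hs⟩ := hrange f hle t hft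
    obtain ⟨s', hs'⟩ := hrange f hle t' h1
    have h2 := key f hle ha
    have h3 : s = s' := by
      apply (Y.homOfLE hle ≫ toSp O T.ι h').isOpenEmbedding.injective
      show toSp O T.ι h' (Y.homOfLE hle s) = toSp O T.ι h' (Y.homOfLE hle s')
      rw [hs, hs', htt]
    rw [← hs, ← hs', h3]
  · intro t
    obtain ⟨f, hft, hle, ha⟩ := hf _ (hmem t)
    obtain ⟨s, hs⟩ := hrange f hle t hft
    exact ⟨_, Y.homOfLE hle, inferInstance, ⟨s, hs⟩, key f hle ha⟩

end K388.Germ
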