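import Groth.Agent.Desc.K388.GermDD
import Groth.Agent.Desc.K388.GermOpen
import Groth.Agent.Desc.AffineEff
import Groth.Agent.Flat2F.QuasiAffine
import Groth.Agent.S1894

/-!
# Effectivity of ind-quasi-affine descent data, affine case
-/

set_option autoImplicit false
set_option backward.isDefEq.respectTransparency false
set_option backward.isDefEq.respectTransparency.types false
open CategoryTheory CategoryTheory.Limits AlgebraicGeometry
universe u

namespace K388.IndEff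

open _root_.Desc K388.Germ K388.SimpDD K388.DDGrpd K388.GermDD Groth.Agent.Desc.StableDD

variable {X S : Scheme.{u}} {p : X ⟶ S}

/-- Interpolation: a stable open `N` containing the quasi-compact open `W''` contains a smaller stable
open contained in a quasi-compact open. -/
theorem exists_next (D : SchDD p) [Flat p] [QuasiCompact p] (W₀ N : D.obj.left.Opens)
    (hW₀ : IsCompact (W₀ : Set D.obj.left)) (hN : IsStable D N) (h : W₀ ≤ N) :
    ∃ W N' : D.obj.left.Opens, IsCompact (W : Set D.obj.left) ∧ IsStable D N' ∧ W₀ ≤ N' ∧ N' ≤ W ∧ W ≤ N := by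
  have h1 : QuasiCompact (grpd D).s := src_of D @QuasiCompact ‹_›
  have h2 : Flat (grpd D).s := src_of D @Flat ‹_›
  have h3 : QuasiCompact (grpd D).t := tgt_of D @QuasiCompact ‹_›
  have h4 : Flat (grpd D).t := tgt_of D @Flat ‹_›
  have h1' : QuasiCompact (src D) := h1
  have horb : ∀ (Z : Set D.obj.left) (r : R D), src D r ∈ ⇑(tgt D) '' (⇑(src D) ⁻¹' Z) ↔
      tgt D r ∈ ⇑(tgt D) '' (⇑(src D) ⁻¹' Z) := Groth.Agent.S1894.mem_orbit_iff (grpd D)
  have hsub : ∀ Z : Set D.obj.left, Z ⊆ ⇑(tgt D) '' (⇑(src D) ⁻¹' Z) := Groth.Agent.S1894.subset_orbit (grpd D)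
  set E : Set D.obj.left := ⇑(tgt D) '' (⇑(src D) ⁻¹' (W₀ : Set D.obj.left)) with hEdef
  have hEc : IsCompact E := ((src D).isCompact_preimage hW₀).image (tgt D).continuous
  have hEN : E ⊆ (N : Set D.obj.left) := by
    rintro _ ⟨r, hr, rfl⟩
    have h5 := (isStable_iff D N).1 hN
    have h6 : r ∈ src D ⁻¹ᵁ N := h hr
    rw [h5] at h6
    exact h6
  obtain ⟨W, hW, hEW, hWN⟩ := Groth.Agent.Flat2F.QuasiAffine.exists_compact_opens_between hEc hEN
  have hZ : IsClosed (W : Set D.obj.left)ᶜ := W.isOpen.isClosed_compl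
  have hcl : ∀ r : R D, src D r ∈ closure (⇑(tgt D) '' (⇑(src D) ⁻¹' (W : Set D.obj.left)ᶜ)) ↔
      tgt D r ∈ closure (⇑(tgt D) '' (⇑(src D) ⁻¹' (W : Set D.obj.left)ᶜ)) :=
    Groth.Agent.S1894.mem_closure_orbit_iff (grpd D) hZ
  set T : Set D.obj.left := ⇑(tgt D) '' (⇑(src D) ⁻¹' (W : Set D.obj.left)ᶜ) with hT
  refine ⟨W, ⟨(closure T)ᶜ, isClosed_closure.isOpen_compl⟩, hW, ?_, ?_, ?_, hWN⟩
  · rw [isStable_iff]
    ext r
    exact not_congr (hcl r)
  · have hdisj : Disjoint (W₀ : Set D.obj.left) T := by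
      rw [Set.disjoint_left]
      rintro w hw ⟨r, hr, rfl⟩
      have h1 : tgt D r ∈ E := hsub _ hw
      have h2 := (horb (W₀ : Set D.obj.left) r).mpr h1
      exact hr (hEW h2)
    have := hdisj.closure_right W₀.isOpen
    intro w hw hwT
    exact Set.disjoint_left.mp this hw hwT
  · intro v hv
    by_contra hvW'
    exact hv (subset_closure (hsub _ hvW'))

theorem isStable_top (D : SchDD p) : IsStable D ⊤ := fun _ _ _ _ _ _ _ => trivial

/-- The decreasing sequence of quasi-compact opens. -/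
theorem exists_seq (D : SchDD p) [Flat p] [QuasiCompact p] (W₀ : D.obj.left.Opens)
    (hW₀ : IsCompact (W₀ : Set D.obj.left)) :
    ∃ O : Sq D.obj.left, (∀ n, IsCompact (O.W n : Set D.obj.left)) ∧
      (∀ n, ∃ k, (pre (src D) O).W k ≤ (tgt D) ⁻¹ᵁ O.W n) ∧ ∀ n, W₀ ≤ O.W n := by
  choose! W N' h1 h2 h3 h4 h5 using fun (N : D.obj.left.Opens) (hN : IsStable D N ∧ W₀ ≤ N) =>
    exists_next D W₀ N hW₀ hN.1 hN.2
  let N : ℕ → D.obj.left.Opens := fun n => Nat.rec ⊤ (fun _ N => N' N) n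
  have hN0 : N 0 = ⊤ := rfl
  have hN1 : ∀ n, N (n + 1) = N' (N n) := fun n => rfl
  have hN : ∀ n, IsStable D (N n) ∧ W₀ ≤ N n := by
    intro n
    induction n with
    | zero => exact ⟨isStable_top D, le_top⟩
    | succ n ih => exact ⟨h2 _ ih, h3 _ ih⟩
  have hanti : Antitone fun n => W (N n) := antitone_nat_of_succ_le fun n =>
    (h5 _ (hN (n + 1))).trans (h4 _ (hN n))
  refine ⟨⟨fun n => W (N n), hanti⟩, fun n => h1 _ (hN n), fun n => ⟨n + 1, ?_⟩, fun n =>
    (h3 _ (hN n)).trans (h4 _ (hN n))⟩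
  show (src D) ⁻¹ᵁ W (N (n + 1)) ≤ (tgt D) ⁻¹ᵁ W (N n)
  calc (src D) ⁻¹ᵁ W (N (n + 1)) ≤ (src D) ⁻¹ᵁ N (n + 1) := (src D).preimage_mono (h5 _ (hN (n + 1)))
    _ = (tgt D) ⁻¹ᵁ N (n + 1) := (isStable_iff D _).1 (hN (n + 1)).1
    _ ≤ (tgt D) ⁻¹ᵁ W (N n) := (tgt D).preimage_mono (h4 _ (hN n))

theorem exists_affine_basicOpen_le {Y : Scheme.{u}} {V T : Y.Opens} (hTV : T ≤ V)
    (hV : (V : Scheme.{u}).IsQuasiAffine) {y : Y} (hy : y ∈ T) :
    ∃ r : Γ(Y, V), y ∈ Y.basicOpen r ∧ Y.basicOpen r ≤ T ∧ IsAffineOpen (Y.basicOpen r) := by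
  obtain ⟨_, ⟨_, ⟨r, hr, rfl⟩, rfl⟩, hxr, hle⟩ :=
    (Scheme.IsQuasiAffine.isBasis_basicOpen (V : Scheme.{u})).exists_subset_of_mem_open
      (show (⟨y, hTV hy⟩ : V) ∈ (V.ι ⁻¹ᵁ T : V.toScheme.Opens) from hy) (V.ι ⁻¹ᵁ T).2
  have key : Y.basicOpen (V.topIso.hom r) = V.ι ''ᵁ (Scheme.basicOpen _ r) := by
    rw [← Scheme.Opens.ι_image_basicOpen_topIso_inv, Iso.hom_inv_id_apply]
  refine ⟨V.topIso.hom r, ?_, ?_, ?_⟩
  · rw [key]
    exact ⟨_, hxr, rfl⟩
  · rw [key]
    rintro _ ⟨z, hz, rfl⟩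
    exact hle hz
  · rw [key]
    exact hr.image_of_isOpenImmersion V.ι

/-- A scheme all of whose quasi-compact opens are quasi-affine is quasi-separated. -/
theorem quasiSeparatedSpace_of_ind {Y : Scheme.{u}}
    (h : ∀ U : Y.Opens, IsCompact (U : Set Y) → (U : Scheme.{u}).IsQuasiAffine) : QuasiSeparatedSpace Y := by
  rw [quasiSeparatedSpace_iff_forall_affineOpens]
  intro U V
  have hc : IsCompact ((U.1 ⊔ V.1 : Y.Opens) : Set Y) := by
    rw [TopologicalSpace.Opens.coe_sup]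
    exact U.2.isCompact.union V.2.isCompact
  have h1 := h _ hc
  have h2 : IsQuasiSeparated ((U.1 ⊔ V.1 : Y.Opens) : Set Y) :=
    (isQuasiSeparated_iff_quasiSeparatedSpace _ (U.1 ⊔ V.1).2).mpr
      (inferInstanceAs (QuasiSeparatedSpace ((U.1 ⊔ V.1 : Y.Opens) : Scheme.{u})))
  exact h2 U.1 V.1 (le_sup_left (a := U.1) (b := V.1)) U.1.2 U.2.isCompact
    (le_sup_right (a := U.1) (b := V.1)) V.1.2 V.2.isCompact

/-- The affine case. -/
theorem effective_of_affine [IsAffine X] [IsAffine S] [Flat p] [Surjective p] (D : SchDD p)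
    (hD : MoreMor.IsIndQuasiAffineHom D.obj.hom) : ∃ U : Over S, Nonempty ((toDD p).obj U ≅ D) := by
  have hq' := (Groth.Agent.Flat2F.QuasiAffine.indHom_iff D.obj.hom).1 hD ⊤ (isAffineOpen_top X)
  have hqa : ∀ U : D.obj.left.Opens, IsCompact (U : Set D.obj.left) → (U : Scheme.{u}).IsQuasiAffine :=
    fun U hU => hq' U (fun x _ => trivial) hU
  have hqs : QuasiSeparatedSpace D.obj.left := quasiSeparatedSpace_of_ind hqa
  have h8 : (toDD p).Full := Groth.Agent.Desc.AffineEff.toDD_full p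
  have h9 : (toDD p).Faithful := Groth.Agent.Desc.AffineEff.toDD_faithful p
  have hq : ∀ T : Over S, Topology.IsQuotientMap (pullback.snd p T.hom).base :=
    fun T => Flat.isQuotientMap_of_surjective _
  have h1 : QuasiCompact (grpd D).s := src_of D @QuasiCompact inferInstance
  have h2 : Flat (grpd D).s := src_of D @Flat ‹_›
  have h3 : QuasiCompact (grpd D).t := tgt_of D @QuasiCompact inferInstance
  have h4 : Flat (grpd D).t := tgt_of D @Flat ‹_›
  have h5 : QuasiSeparatedSpace (grpd D).U := hqs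
  have key : ∀ v : D.obj.left, ∃ V' : D.obj.left.Opens, ∃ W' : D.obj.left.Opens, v ∈ V' ∧ IsStable D V' ∧
      IsCompact (W' : Set D.obj.left) ∧ V' ≤ W' := by
    intro v
    obtain ⟨W, hW, hvW, -⟩ := exists_isAffineOpen_mem_and_subset (X := D.obj.left) (U := ⊤) (x := v) trivial
    obtain ⟨V', W', hst, hW', hle, hle'⟩ := Groth.Agent.S1894.result S (grpd D) W hW.isCompact
    exact ⟨V', W', hle hvW, (isStable_iff D V').2 hst, hW', hle'⟩
  choose V' W' hv hst hW' hle using key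
  refine effective_of_cover D hq V' hst (fun v => ⟨v, hv v⟩) fun v => ?_
  obtain ⟨O, hO, hstar, hWO⟩ := exists_seq D (W' v) (hW' v)
  have hVO : ∀ n, V' v ≤ O.W n := fun n => (hle v).trans (hWO n)
  obtain ⟨F, hF⟩ := comm D O hO hstar (V' v) (hst v) hVO
  have hopen : IsOpenImmersion (toSp O (V' v).ι (hι D O (V' v) hVO)) :=
    isOpenImmersion_toSp O hO (V' v) hVO (fun t ht =>
      exists_affine_basicOpen_le (hVO 0) (hqa _ (hO 0)) ht) _
  have haff : IsAffineHom (simp D O hO hstar).dd.obj.hom := by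
    show IsAffineHom (sX O D.obj.hom)
    infer_instance
  obtain ⟨U₀, hU₀⟩ := Groth.Agent.Desc.AffineEff.affine_effective p (simp D O hO hstar).dd
  exact Groth.Agent.Desc.OpenDD.effective_of_open _ _ F _ hF U₀ hU₀

end K388.IndEff
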