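import Groth.Prelude.Def_Grpd
import Groth.Agent.Desc.SecFunctor
import Groth.Agent.Desc.StableDD

/-!
# The groupoid scheme of a descent datum

For a descent datum `D` relative to `p : X ⟶ S` with total scheme `V` the arrows of the groupoid
`grpd D` on `V` are the pairs `(v, x)` of a point of `V` and a point of `X` over the same point of `S`;
such an arrow goes from `v` to the transport of `v` to `x`.
-/

set_option autoImplicit false
open CategoryTheory CategoryTheory.Limits AlgebraicGeometry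
universe u

namespace K388.DDGrpd

open _root_.Desc Groth.Agent.Desc.SecFunctor Groth.Agent.Desc.StableDD

variable {X S : Scheme.{u}} {p : X ⟶ S} (D : SchDD p)

/-- The arrows: `V ×_S X`. -/
noncomputable abbrev R : Scheme.{u} := pullback (D.obj.hom ≫ p) p

/-- source -/
noncomputable abbrev src : R D ⟶ D.obj.left := pullback.fst (D.obj.hom ≫ p) p

/-- the point of `X` of an arrow -/
noncomputable abbrev pt : R D ⟶ X := pullback.snd (D.obj.hom ≫ p) p

theorem src_pt : (src D ≫ D.obj.hom) ≫ p = pt D ≫ p := by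
  rw [Category.assoc]; exact pullback.condition

/-- the universal transport -/
noncomputable def univ : Lifts D.obj (pt D) :=
  D.φ (src D ≫ D.obj.hom) (pt D) (src_pt D) ⟨src D, rfl⟩

/-- target -/
noncomputable def tgt : R D ⟶ D.obj.left := (univ D).1

theorem tgt_hom : tgt D ≫ D.obj.hom = pt D := (univ D).2

/-- the transport of a point `v` of `V` to a point `x` of `X`. -/
noncomputable def tr {T : Scheme.{u}} (v : T ⟶ D.obj.left) (x : T ⟶ X) (h : (v ≫ D.obj.hom) ≫ p = x ≫ p) :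
    T ⟶ D.obj.left :=
  (D.φ (v ≫ D.obj.hom) x h ⟨v, rfl⟩).1

theorem tr_hom {T : Scheme.{u}} (v : T ⟶ D.obj.left) (x : T ⟶ X) (h : (v ≫ D.obj.hom) ≫ p = x ≫ p) :
    tr D v x h ≫ D.obj.hom = x :=
  (D.φ (v ≫ D.obj.hom) x h ⟨v, rfl⟩).2

theorem φ_eq_tr {T : Scheme.{u}} (x₀ x₁ : T ⟶ X) (h : x₀ ≫ p = x₁ ≫ p) (v : Lifts D.obj x₀) :
    (D.φ x₀ x₁ h v).1 = tr D v.1 x₁ (by rw [v.2]; exact h) := by
  obtain ⟨v, rfl⟩ := v
  rfl

theorem tr_congr {T : Scheme.{u}} {v v' : T ⟶ D.obj.left} {x x' : T ⟶ X} (hv : v = v') (hx : x = x')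
    (h : (v ≫ D.obj.hom) ≫ p = x ≫ p) (h' : (v' ≫ D.obj.hom) ≫ p = x' ≫ p) : tr D v x h = tr D v' x' h' := by
  subst hv hx; rfl

theorem tr_nat {T T' : Scheme.{u}} (g : T' ⟶ T) (v : T ⟶ D.obj.left) (x : T ⟶ X)
    (h : (v ≫ D.obj.hom) ≫ p = x ≫ p) (h' : ((g ≫ v) ≫ D.obj.hom) ≫ p = (g ≫ x) ≫ p) :
    tr D (g ≫ v) (g ≫ x) h' = g ≫ tr D v x h :=
  φ_nat D g (v ≫ D.obj.hom) x h ⟨v, rfl⟩ (Category.assoc _ _ _) rfl h' ⟨g ≫ v, rfl⟩ rfl

theorem tr_self {T : Scheme.{u}} (v : T ⟶ D.obj.left) (h : (v ≫ D.obj.hom) ≫ p = (v ≫ D.obj.hom) ≫ p) :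
    tr D v (v ≫ D.obj.hom) h = v := by
  rw [tr, D.φ_self]

theorem tr_tr {T : Scheme.{u}} (v : T ⟶ D.obj.left) (x y : T ⟶ X)
    (h : (v ≫ D.obj.hom) ≫ p = x ≫ p) (h' : (tr D v x h ≫ D.obj.hom) ≫ p = y ≫ p)
    (h'' : (v ≫ D.obj.hom) ≫ p = y ≫ p) :
    tr D (tr D v x h) y h' = tr D v y h'' := by
  have h1 : x ≫ p = y ≫ p := h.symm.trans h''
  have h2 := congrArg Subtype.val (D.φ_comp (v ≫ D.obj.hom) x y h h1 ⟨v, rfl⟩)
  rw [φ_eq_tr] at h2
  exact h2

theorem comp_tgt {T : Scheme.{u}} (r : T ⟶ R D) :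
    r ≫ tgt D = tr D (r ≫ src D) (r ≫ pt D) (by
      rw [Category.assoc, Category.assoc, Category.assoc, ← src_pt, Category.assoc]) := by
  have h := tr_nat D r (src D) (pt D) (src_pt D) (by
      rw [Category.assoc, Category.assoc, Category.assoc, ← src_pt, Category.assoc])
  exact h.symm

theorem lift_tgt {T : Scheme.{u}} (v : T ⟶ D.obj.left) (x : T ⟶ X) (h : v ≫ D.obj.hom ≫ p = x ≫ p) :
    pullback.lift v x h ≫ tgt D = tr D v x (by rw [Category.assoc]; exact h) := by
  rw [comp_tgt]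
  exact tr_congr D (pullback.lift_fst _ _ _) (pullback.lift_snd _ _ _) _ _

theorem cond' : (tgt D ≫ D.obj.hom ≫ p) = src D ≫ D.obj.hom ≫ p := by
  rw [← Category.assoc, tgt_hom, ← src_pt, Category.assoc]

theorem compat {T : Scheme.{u}} (r : T ⟶ R D) : ((r ≫ src D) ≫ D.obj.hom) ≫ p = (r ≫ pt D) ≫ p := by
  rw [Category.assoc, Category.assoc, Category.assoc, ← src_pt, Category.assoc]

/-- composition of arrows -/
noncomputable def cmp : pullback (src D) (tgt D) ⟶ R D :=
  pullback.lift (pullback.snd (src D) (tgt D) ≫ src D) (pullback.fst (src D) (tgt D) ≫ pt D) (by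
    rw [Category.assoc, ← cond', ← Category.assoc, ← pullback.condition, Category.assoc, Category.assoc,
      ← src_pt, Category.assoc])

theorem lift_cmp_src {T : Scheme.{u}} (α β : T ⟶ R D) (h : α ≫ src D = β ≫ tgt D) :
    (pullback.lift α β h ≫ cmp D) ≫ src D = β ≫ src D := by
  rw [Category.assoc, cmp, pullback.lift_fst, pullback.lift_snd_assoc]

theorem lift_cmp_pt {T : Scheme.{u}} (α β : T ⟶ R D) (h : α ≫ src D = β ≫ tgt D) :
    (pullback.lift α β h ≫ cmp D) ≫ pt D = α ≫ pt D := by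
  rw [Category.assoc, cmp, pullback.lift_snd, pullback.lift_fst_assoc]

theorem lift_cmp_tgt {T : Scheme.{u}} (α β : T ⟶ R D) (h : α ≫ src D = β ≫ tgt D) :
    (pullback.lift α β h ≫ cmp D) ≫ tgt D = α ≫ tgt D := by
  rw [comp_tgt, comp_tgt D α]
  have h1 : α ≫ src D = tr D (β ≫ src D) (β ≫ pt D) (compat D β) := h.trans (comp_tgt D β)
  have h2 : ((β ≫ src D) ≫ D.obj.hom) ≫ p = (α ≫ pt D) ≫ p := by
    have := compat D (pullback.lift α β h ≫ cmp D)
    rwa [lift_cmp_src, lift_cmp_pt] at this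
  rw [tr_congr D (lift_cmp_src D α β h) (lift_cmp_pt D α β h) _ h2,
    tr_congr D h1 rfl _ (by rw [← h1]; exact compat D α), tr_tr]

theorem R_ext {T : Scheme.{u}} {α β : T ⟶ R D} (h₁ : α ≫ src D = β ≫ src D) (h₂ : α ≫ pt D = β ≫ pt D) :
    α = β := pullback.hom_ext h₁ h₂

/-- identity -/
noncomputable def one : D.obj.left ⟶ R D := pullback.lift (𝟙 _) D.obj.hom (by rw [Category.id_comp])

theorem one_src : one D ≫ src D = 𝟙 _ := pullback.lift_fst _ _ _

theorem one_pt : one D ≫ pt D = D.obj.hom := pullback.lift_snd _ _ _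

theorem one_tgt : one D ≫ tgt D = 𝟙 _ := by
  rw [comp_tgt, tr_congr D (one_src D) ((one_pt D).trans (Category.id_comp _).symm) _ rfl, tr_self]

/-- inverse -/
noncomputable def inve : R D ⟶ R D :=
  pullback.lift (tgt D) (src D ≫ D.obj.hom) (by rw [cond', Category.assoc])

theorem inve_src : inve D ≫ src D = tgt D := pullback.lift_fst _ _ _

theorem inve_pt : inve D ≫ pt D = src D ≫ D.obj.hom := pullback.lift_snd _ _ _

theorem inve_tgt : inve D ≫ tgt D = src D := by
  have h1 : tgt D = tr D (src D) (pt D) (src_pt D) := rfl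
  rw [comp_tgt, tr_congr D ((inve_src D).trans h1) (inve_pt D) _ (by rw [tr_hom, src_pt]), tr_tr, tr_self]
  rfl

/-- The groupoid scheme of a descent datum. -/
noncomputable def grpd : Grpd.GroupoidScheme S where
  U := D.obj.left
  R := R D
  pU := D.obj.hom ≫ p
  pR := src D ≫ D.obj.hom ≫ p
  s := src D
  t := tgt D
  e := one D
  i := inve D
  c := cmp D
  s_over := rfl
  t_over := cond' D
  comp_s α β h := lift_cmp_src D α β h
  comp_t α β h := lift_cmp_tgt D α β h
  assoc α β γ h₁ h₂ := by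
    apply R_ext
    · rw [lift_cmp_src, lift_cmp_src, lift_cmp_src]
    · rw [lift_cmp_pt, lift_cmp_pt, lift_cmp_pt]
  e_s := one_src D
  e_t := one_tgt D
  comp_e α := by
    apply R_ext
    · rw [lift_cmp_src, Category.assoc, Category.assoc, one_src, Category.comp_id]
    · rw [lift_cmp_pt]
  e_comp α := by
    apply R_ext
    · rw [lift_cmp_src]
    · rw [lift_cmp_pt, Category.assoc, Category.assoc, one_pt, tgt_hom]
  i_s := inve_src D
  i_t := inve_tgt D
  comp_i α := by
    apply R_ext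
    · rw [lift_cmp_src, Category.assoc, Category.assoc, Category.assoc, one_src, Category.comp_id, inve_src]
    · rw [lift_cmp_pt, Category.assoc, Category.assoc, one_pt, tgt_hom]
  i_comp α := by
    apply R_ext
    · rw [lift_cmp_src, Category.assoc, Category.assoc, one_src, Category.comp_id]
    · rw [lift_cmp_pt, Category.assoc, inve_pt, Category.assoc, Category.assoc, one_pt]

/-- The source is a base change of `p`. -/
theorem isPullback_src : IsPullback (pt D) (src D) p (D.obj.hom ≫ p) :=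
  (IsPullback.of_hasPullback (D.obj.hom ≫ p) p).flip

theorem isIso_inve : IsIso (inve D) := by
  refine ⟨inve D, ?_, ?_⟩ <;>
  · apply R_ext
    · rw [Category.assoc, inve_src, inve_tgt, Category.id_comp]
    · rw [Category.assoc, inve_pt, ← Category.assoc, inve_src, tgt_hom, Category.id_comp]

theorem src_of (P : MorphismProperty Scheme.{u}) [P.IsStableUnderBaseChange] (h : P p) : P (src D) :=
  P.of_isPullback (isPullback_src D) h

theorem tgt_of (P : MorphismProperty Scheme.{u}) [P.IsStableUnderBaseChange] (h : P p) : P (tgt D) := by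
  have := isIso_inve D
  rw [← inve_src, P.cancel_left_of_respectsIso]
  exact src_of D P h

/-- A stable open is an invariant open of the groupoid, and conversely. -/
theorem isStable_iff (W : D.obj.left.Opens) : IsStable D W ↔ src D ⁻¹ᵁ W = tgt D ⁻¹ᵁ W := by
  constructor
  · intro h
    ext r
    have h1 := h.mem_iff (src D ≫ D.obj.hom) (pt D) (src_pt D) ⟨src D, rfl⟩ r
    exact h1.symm
  · intro h T x₀ x₁ hx v t ht
    obtain ⟨v, rfl⟩ := v
    rw [φ_eq_tr]
    have h1 := lift_tgt D v x₁ (by rw [← hx, Category.assoc])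
    rw [← h1]
    have h2 : pullback.lift v x₁ (by rw [← hx, Category.assoc]) t ∈ src D ⁻¹ᵁ W := by
      show (src D) _ ∈ W
      rw [← Scheme.Hom.comp_apply, pullback.lift_fst]
      exact ht
    rw [h] at h2
    exact h2

end K388.DDGrpd
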