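import Mathlib.AlgebraicGeometry.Scheme
import Mathlib.FieldTheory.Finite.Basic
import Mathlib.RingTheory.Ideal.MinimalPrime.Noetherian
import Mathlib.RingTheory.Polynomial.Basic

/-!
# Ideals of a polynomial ring stable under elementary automorphisms
-/

set_option autoImplicit false
universe u v w
open MvPolynomial

namespace K388.ElemAut

variable {k : Type u} [Field k] {n : ℕ}

/-- `a` is a `B`-point of the closed subscheme defined by `I`. -/
def Vp (I : Ideal (MvPolynomial (Fin n) k)) {B : Type v} [CommRing B] [Algebra k B] (a : Fin n → B) : Prop :=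
  ∀ f ∈ I, aeval a f = 0

/-- `I` is stable under the elementary automorphisms -/
def Stab (I : Ideal (MvPolynomial (Fin n) k)) : Prop :=
  ∀ i j : Fin n, i ≠ j → ∀ d : ℕ, ∀ f ∈ I,
    aeval (Function.update X i (X i + X j ^ d) : Fin n → MvPolynomial (Fin n) k) f ∈ I

variable {I : Ideal (MvPolynomial (Fin n) k)}

theorem Vp.step (hI : Stab I) {B : Type v} [CommRing B] [Algebra k B] {a : Fin n → B} (h : Vp I a)
    (i j : Fin n) (hij : i ≠ j) (d : ℕ) : Vp I (Function.update a i (a i + a j ^ d)) := by
  intro f hf
  have h1 := h _ (hI i j hij d f hf)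
  rw [comp_aeval_apply] at h1
  have h2 : (fun l => aeval a ((Function.update X i (X i + X j ^ d) : Fin n → MvPolynomial (Fin n) k) l)) =
      Function.update a i (a i + a j ^ d) := by
    funext l
    by_cases hl : l = i
    · subst hl
      simp
    · simp [Function.update_of_ne hl]
  rwa [h2] at h1

theorem finite_closure (hI : Stab I) {B : Type v} [CommRing B] [Algebra k B] {a : Fin n → B} (h : Vp I a)
    (i j : Fin n) (hij : i ≠ j) (hfin : {c : B | Vp I (Function.update a i c)}.Finite) :
    (Subring.closure {a j} : Set B).Finite := by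
  set C : Set B := {c : B | Vp I (Function.update a i c)} with hC
  have ha : a i ∈ C := by
    show Vp I (Function.update a i (a i))
    rwa [Function.update_eq_self]
  let H : AddSubgroup B :=
    { carrier := {b | ∀ c ∈ C, c + b ∈ C}
      add_mem' := fun {b b'} hb hb' c hc => by rw [← add_assoc]; exact hb' _ (hb _ hc)
      zero_mem' := fun c hc => by rwa [add_zero]
      neg_mem' := fun {b} hb c hc => by
        have h1 : Set.MapsTo (fun c => c + b) C C := fun c hc => hb c hc
        have h2 : Set.InjOn (fun c : B => c + b) C := fun x _ y _ hxy => add_right_cancel hxy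
        have h3 : (fun c => c + b) '' C = C := by
          refine Set.eq_of_subset_of_ncard_le h1.image_subset ?_ hfin
          rw [h2.ncard_image]
        obtain ⟨c', hc', hcc⟩ := h3.symm ▸ hc
        have h4 : c' = c + -b := by
          have hcc' : c' + b = c := hcc
          rw [← hcc']; ring
        rwa [← h4] }
  have hH : ∀ d : ℕ, a j ^ d ∈ H := by
    intro d c hc
    have h1 : Vp I (Function.update a i c) := hc
    have h2 := Vp.step hI h1 i j hij d
    rw [Function.update_self, Function.update_of_ne hij.symm, Function.update_idem] at h2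
    exact h2
  have hle : (Subring.closure {a j} : Set B) ⊆ H := by
    intro b hb
    have h1 : b ∈ AddSubgroup.closure (Submonoid.closure {a j} : Set B) := Subring.mem_closure_iff.1 hb
    refine (AddSubgroup.closure_le H).2 ?_ h1
    intro y hy
    obtain ⟨d, rfl⟩ := Submonoid.mem_closure_singleton.1 hy
    exact hH d
  have hHfin : (H : Set B).Finite := by
    refine Set.Finite.of_injOn (f := fun b => a i + b) (t := C) (fun b hb => hb _ ha)
      (fun x _ y _ hxy => add_left_cancel hxy) hfin
  exact hHfin.subset hle

theorem Vp.generic {B : Type v} [CommRing B] [IsDomain B] [Algebra k B] {a : Fin n → B}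
    (i : Fin n) (hinf : {c : B | Vp I (Function.update a i c)}.Infinite)
    {B' : Type w} [CommRing B'] [Algebra k B'] (φ : B →ₐ[k] B') (c : B') :
    Vp I (Function.update (fun l => φ (a l)) i c) := by
  intro f hf
  let P : Polynomial B := aeval (Function.update (fun l => Polynomial.C (a l)) i Polynomial.X) f
  have hP : P = 0 := by
    apply Polynomial.eq_zero_of_infinite_isRoot
    refine hinf.mono fun c hc => ?_
    show Polynomial.eval c P = 0
    have h1 : Polynomial.eval c P = ((Polynomial.aeval c : Polynomial B →ₐ[B] B).restrictScalars k) P := by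
      simp [Polynomial.coe_aeval_eq_eval]
    rw [h1, comp_aeval_apply]
    refine Eq.trans ?_ (hc f hf)
    congr 2
    funext l
    by_cases hl : l = i
    · subst hl; simp
    · simp [Function.update_of_ne hl]
  have h1 : aeval (Function.update (fun l => φ (a l)) i c) f = (Polynomial.eval₂AlgHom φ c (fun _ => Commute.all _ _)) P := by
    rw [comp_aeval_apply]
    congr 2
    funext l
    by_cases hl : l = i
    · subst hl; simp
    · simp [Function.update_of_ne hl]
  rw [h1, hP, map_zero]

theorem aeval_X_eq_map {K : Type v} [Field K] [Algebra k K] (f : MvPolynomial (Fin n) k) :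
    aeval (X : Fin n → MvPolynomial (Fin n) K) f = map (algebraMap k K) f := by
  have h : (aeval (X : Fin n → MvPolynomial (Fin n) K) : MvPolynomial (Fin n) k →ₐ[k] MvPolynomial (Fin n) K) =
      mapAlgHom (Algebra.ofId k K) := by
    apply MvPolynomial.algHom_ext
    intro i
    simp
  rw [h]
  rfl

theorem pow_X_injective {K : Type v} [Field K] (i : Fin n) :
    Function.Injective fun d : ℕ => (X i : MvPolynomial (Fin n) K) ^ d := by
  intro d e hde
  have h5 : (X i ^ d : MvPolynomial (Fin n) K).totalDegree = (X i ^ e : MvPolynomial (Fin n) K).totalDegree :=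
    congrArg totalDegree hde
  rwa [totalDegree_X_pow, totalDegree_X_pow] at h5

theorem finite_of_ne_bot (hI : Stab I) (hI0 : I ≠ ⊥) {K : Type v} [Field K] [Algebra k K] {a : Fin n → K}
    (i : Fin n) : {c : K | Vp I (Function.update a i c)}.Finite := by
  classical
  by_contra hinf
  replace hinf : {c : K | Vp I (Function.update a i c)}.Infinite := hinf
  have hC : ∀ s : Finset (Fin n), Vp I (fun l => if l ∈ insert i s then (X l : MvPolynomial (Fin n) K) else C (a l)) := by
    intro s
    induction s using Finset.induction_on with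
    | empty =>
      have h1 := Vp.generic (I := I) i hinf (IsScalarTower.toAlgHom k K (MvPolynomial (Fin n) K)) (X i)
      convert h1 using 1
      funext l
      by_cases hl : l = i
      · subst hl; simp
      · simp [Function.update_of_ne hl, hl, algebraMap_eq]
    | insert l s hl ih =>
      by_cases hli : l = i
      · subst hli
        simpa using ih
      · set b : Fin n → MvPolynomial (Fin n) K :=
          fun l => if l ∈ insert i s then (X l : MvPolynomial (Fin n) K) else C (a l) with hb
        have hinf2 : {c : MvPolynomial (Fin n) K | Vp I (Function.update b l c)}.Infinite := by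
          intro hfin
          have h2 := finite_closure hI ih l i hli hfin
          have h3 : b i = X i := by simp [hb]
          rw [h3] at h2
          have h4 : (Set.range fun d : ℕ => (X i : MvPolynomial (Fin n) K) ^ d).Finite := by
            refine h2.subset ?_
            rintro _ ⟨d, rfl⟩
            exact Subring.pow_mem _ (Subring.subset_closure (Set.mem_singleton _)) d
          exact Set.infinite_range_of_injective (pow_X_injective i) h4
        have h1 := Vp.generic (I := I) l hinf2 (AlgHom.id k (MvPolynomial (Fin n) K)) (X l)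
        convert h1 using 1
        funext m
        by_cases hm : m = l
        · subst hm; simp
        · simp [Function.update_of_ne hm, hm, hb]
  have h1 := hC Finset.univ
  have h2 : (fun l => if l ∈ insert i Finset.univ then (X l : MvPolynomial (Fin n) K) else C (a l)) = X := by
    funext l; simp
  rw [h2] at h1
  apply hI0
  rw [eq_bot_iff]
  intro f hf
  have h3 := h1 f hf
  rw [aeval_X_eq_map] at h3
  rw [Submodule.mem_bot]
  exact map_injective _ (algebraMap k K).injective (by rw [h3, map_zero])

theorem exists_pow_eq {K : Type v} [Field K] {b : K} (hfin : (Subring.closure {b} : Set K).Finite) (p : ℕ) [CharP K p] :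
    p.Prime ∧ ∃ m : ℕ, 0 < m ∧ b ^ (p ^ m) = b := by
  classical
  have h1 : Finite (Subring.closure {b}) := hfin
  have h2 : Fintype (Subring.closure {b}) := Fintype.ofFinite _
  let _ : Field (Subring.closure {b}) := Fintype.fieldOfDomain _
  have h3 : CharP (Subring.closure {b}) p :=
    (RingHom.charP_iff (Subring.subtype (Subring.closure {b})) (Subring.subtype_injective _) p).2 ‹_›
  obtain ⟨m, hp, hm⟩ := FiniteField.card (Subring.closure {b}) p
  refine ⟨hp, m, m.2, ?_⟩
  have h4 := FiniteField.pow_card (⟨b, Subring.subset_closure (Set.mem_singleton _)⟩ : Subring.closure {b})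
  rw [hm] at h4
  exact congrArg Subtype.val h4

theorem coord (hI : Stab I) (hI0 : I ≠ ⊥) (hn : 2 ≤ n) {K : Type v} [Field K] [Algebra k K] {a : Fin n → K} (h : Vp I a)
    (p : ℕ) [CharP K p] (j : Fin n) : p.Prime ∧ ∃ m : ℕ, 0 < m ∧ a j ^ (p ^ m) = a j := by
  obtain ⟨i, hij⟩ : ∃ i : Fin n, i ≠ j := by
    have : Nontrivial (Fin n) := Fin.nontrivial_iff_two_le.2 hn
    exact exists_ne j
  exact exists_pow_eq (finite_closure hI h i j hij (finite_of_ne_bot hI hI0 i)) p

theorem main (hn : 2 ≤ n) (Z : Set (PrimeSpectrum (MvPolynomial (Fin n) k))) (hZc : IsClosed Z) (hne : Z ≠ Set.univ)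
    (hinv : ∀ (i j : Fin n), i ≠ j → ∀ d : ℕ, ∀ x ∈ Z, PrimeSpectrum.comap (MvPolynomial.aeval (R := k)
        (Function.update MvPolynomial.X i (MvPolynomial.X i + MvPolynomial.X j ^ d) :
          Fin n → MvPolynomial (Fin n) k)).toRingHom x ∈ Z) :
    Z = ∅ ∨ ∃ p : ℕ, p.Prime ∧ CharP k p ∧ Z.Finite ∧ ∀ x ∈ Z, IsClosed ({x} : Set (PrimeSpectrum (MvPolynomial (Fin n) k)))
      ∧ ∀ i : Fin n, ∃ m : ℕ, 0 < m ∧
          (algebraMap (MvPolynomial (Fin n) k) x.asIdeal.ResidueField (MvPolynomial.X i)) ^ (p ^ m) =
            algebraMap (MvPolynomial (Fin n) k) x.asIdeal.ResidueField (MvPolynomial.X i) := by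
  classical
  set I : Ideal (MvPolynomial (Fin n) k) := PrimeSpectrum.vanishingIdeal Z with hIdef
  have hZ : PrimeSpectrum.zeroLocus (I : Set (MvPolynomial (Fin n) k)) = Z := by
    rw [hIdef, PrimeSpectrum.zeroLocus_vanishingIdeal_eq_closure]
    exact hZc.closure_eq
  have hI0 : I ≠ ⊥ := by
    intro h0
    rw [h0] at hZ
    apply hne
    rw [← hZ]
    refine Set.eq_univ_of_forall fun x => ?_
    rw [PrimeSpectrum.mem_zeroLocus]
    exact bot_le (a := x.asIdeal)
  have hmem : ∀ f, f ∈ I ↔ ∀ x ∈ Z, f ∈ x.asIdeal := fun f =>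
    PrimeSpectrum.mem_vanishingIdeal _ _
  have hI : K388.ElemAut.Stab I := by
    intro i j hij d f hf
    rw [hmem] at hf ⊢
    intro x hx
    exact hf _ (hinv i j hij d x hx)
  have hV : ∀ x ∈ Z,
      Vp I (fun i => algebraMap (MvPolynomial (Fin n) k) x.asIdeal.ResidueField (MvPolynomial.X i)) := by
    intro x hx f hf
    have h1 : f ∈ x.asIdeal := (hmem f).1 hf x hx
    have h2 : MvPolynomial.aeval (fun i => algebraMap (MvPolynomial (Fin n) k) x.asIdeal.ResidueField
        (MvPolynomial.X i)) f = algebraMap (MvPolynomial (Fin n) k) x.asIdeal.ResidueField f := by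
      have h3 : MvPolynomial.aeval (fun i => algebraMap (MvPolynomial (Fin n) k) x.asIdeal.ResidueField
        (MvPolynomial.X i)) = IsScalarTower.toAlgHom k (MvPolynomial (Fin n) k) x.asIdeal.ResidueField := by
        apply MvPolynomial.algHom_ext
        intro i
        simp
      rw [h3]
      rfl
    rw [h2]
    exact Ideal.algebraMap_residueField_eq_zero.2 h1
  by_cases hWt : Z = ∅
  · exact Or.inl hWt
  obtain ⟨x₀, hx₀⟩ : Z.Nonempty := Set.nonempty_iff_ne_empty.2 hWt
  right
  obtain ⟨p, hp⟩ := CharP.exists k
  have hch : ∀ x : PrimeSpectrum (MvPolynomial (Fin n) k), CharP x.asIdeal.ResidueField p := fun x =>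
    charP_of_injective_ringHom (algebraMap k x.asIdeal.ResidueField).injective p
  have hcoord : ∀ x ∈ Z, ∀ j : Fin n, p.Prime ∧
      ∃ m : ℕ, 0 < m ∧ (algebraMap (MvPolynomial (Fin n) k) x.asIdeal.ResidueField (MvPolynomial.X j)) ^ (p ^ m) =
            algebraMap (MvPolynomial (Fin n) k) x.asIdeal.ResidueField (MvPolynomial.X j) := by
    intro x hx j
    have := hch x
    exact coord hI hI0 hn (hV x hx) p j
  have hpp : p.Prime := (hcoord x₀ hx₀ ⟨0, by omega⟩).1
  have hmax : ∀ x ∈ Z, x.asIdeal.IsMaximal := by
    intro x hx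
    have hint : Algebra.IsIntegral k (MvPolynomial (Fin n) k ⧸ x.asIdeal) := by
      refine ⟨fun y => ?_⟩
      obtain ⟨f, rfl⟩ := Ideal.Quotient.mk_surjective y
      induction f using MvPolynomial.induction_on with
      | C c => exact isIntegral_algebraMap (R := k) (A := MvPolynomial (Fin n) k ⧸ x.asIdeal) (x := c)
      | add f g hf hg => rw [map_add]; exact hf.add hg
      | mul_X f i hf =>
        rw [map_mul]
        refine hf.mul ?_
        obtain ⟨-, m, hm, h1⟩ := hcoord x hx i
        rw [← map_pow, ← sub_eq_zero, ← map_sub, Ideal.algebraMap_residueField_eq_zero] at h1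
        have h2 : (Ideal.Quotient.mk x.asIdeal (MvPolynomial.X i)) ^ (p ^ m) =
            Ideal.Quotient.mk x.asIdeal (MvPolynomial.X i) := by
          rw [← map_pow, ← sub_eq_zero, ← map_sub]
          exact Ideal.Quotient.eq_zero_iff_mem.2 h1
        refine ⟨Polynomial.X ^ (p ^ m) - Polynomial.X, ?_, ?_⟩
        · apply Polynomial.monic_X_pow_sub
          rw [Polynomial.degree_X]
          exact_mod_cast Nat.one_lt_pow hm.ne' hpp.one_lt
        · simp [h2]
    have hf : IsField (MvPolynomial (Fin n) k ⧸ x.asIdeal) :=
      isField_of_isIntegral_of_isField' (R := k) (Field.toIsField k)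
    exact Ideal.Quotient.maximal_of_isField _ hf
  refine ⟨p, hpp, hp, ?_, fun x hx => ⟨?_, fun i => (hcoord x hx i).2⟩⟩
  · have h1 : (I.minimalPrimes).Finite := I.finite_minimalPrimes_of_isNoetherianRing
    refine Set.Finite.of_finite_image (f := fun x : PrimeSpectrum (MvPolynomial (Fin n) k) => x.asIdeal)
      (h1.subset ?_) (fun x _ y _ hxy => PrimeSpectrum.ext hxy)
    rintro _ ⟨x, hx, rfl⟩
    have hIx : I ≤ x.asIdeal := by
      intro f hf
      exact (hmem f).1 hf x hx
    obtain ⟨q, hq, hqx⟩ := Ideal.exists_minimalPrimes_le hIx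
    have hqp : q.IsPrime := hq.1.1
    have hqW : (⟨q, hqp⟩ : PrimeSpectrum (MvPolynomial (Fin n) k)) ∈ Z := by
      rw [← hZ]
      exact hq.1.2
    have h3 := (hmax _ hqW).eq_of_le x.2.ne_top hqx
    show x.asIdeal ∈ _
    rw [← h3]
    exact hq
  · exact (PrimeSpectrum.isClosed_singleton_iff_isMaximal x).2 (hmax x hx)

end K388.ElemAut
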