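import Mathlib.AlgebraicGeometry.Fiber
import Mathlib.AlgebraicGeometry.Morphisms.Etale
import Mathlib.AlgebraicGeometry.Morphisms.FlatMono
import Mathlib.RingTheory.Etale.Field
import Mathlib.RingTheory.AlgebraicIndependent.TranscendenceBasis
import Mathlib.RingTheory.AlgebraicIndependent.Transcendental

/-!
# Fibres of étale squares
-/

set_option autoImplicit false

open CategoryTheory CategoryTheory.Limits AlgebraicGeometry

universe u

namespace K388.EtaleFib

section res

variable {S' S : Scheme.{u}} (e : S' ⟶ S)

/-- The residue field extension of an étale morphism is étale. -/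
theorem etale_residueField [Etale e] (s' : S') :
    letI : Algebra (S.residueField (e s')) (S'.residueField s') := (e.residueFieldMap s').hom.toAlgebra
    Algebra.Etale (S.residueField (e s')) (S'.residueField s') := by
  algebraize [(e.stalkMap s').hom]
  have : IsLocalHom (algebraMap (S.presheaf.stalk (e s')) (S'.presheaf.stalk s')) :=
    inferInstanceAs <| IsLocalHom (e.stalkMap s').hom
  have : Algebra.EssFiniteType (S.presheaf.stalk (e s')) (S'.presheaf.stalk s') := by
    rw [← RingHom.essFiniteType_algebraMap, RingHom.algebraMap_toAlgebra]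
    exact LocallyOfFiniteType.stalkMap e s'
  have : Algebra.FormallyUnramified (S.presheaf.stalk (e s')) (S'.presheaf.stalk s') := by
    rw [← RingHom.formallyUnramified_algebraMap, RingHom.algebraMap_toAlgebra]
    exact FormallyUnramified.stalkMap e s'
  have hsep : Algebra.IsSeparable (IsLocalRing.ResidueField <| S.presheaf.stalk (e s'))
      (IsLocalRing.ResidueField <| S'.presheaf.stalk s') := inferInstance
  have hfe : Algebra.FormallyEtale (IsLocalRing.ResidueField <| S.presheaf.stalk (e s'))
      (IsLocalRing.ResidueField <| S'.presheaf.stalk s') := Algebra.FormallyEtale.of_isSeparable _ _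
  have hfp : Algebra.FinitePresentation (IsLocalRing.ResidueField <| S.presheaf.stalk (e s'))
      (IsLocalRing.ResidueField <| S'.presheaf.stalk s') :=
    Algebra.FinitePresentation.of_finiteType.1 inferInstance
  have het : Algebra.Etale (IsLocalRing.ResidueField <| S.presheaf.stalk (e s'))
      (IsLocalRing.ResidueField <| S'.presheaf.stalk s') := {}
  convert! het
  refine Algebra.algebra_ext _ _ fun x ↦ ?_
  obtain ⟨x, rfl⟩ := IsLocalRing.residue_surjective x
  rfl

/-- `Spec κ(s') ⟶ Spec κ(e s')` is étale for `e` étale. -/
theorem etale_specMap_residueFieldMap [Etale e] (s' : S') :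
    Etale (Spec.map (e.residueFieldMap s')) := by
  rw [HasRingHomProperty.Spec_iff (P := @Etale)]
  exact etale_residueField e s'

theorem isAlgebraic_residueFieldMap [Etale e] (s' : S') :
    @Algebra.IsAlgebraic (S.residueField (e s')) (S'.residueField s') _ _
      (e.residueFieldMap s').hom.toAlgebra := by
  let : Algebra (S.residueField (e s')) (S'.residueField s') := (e.residueFieldMap s').hom.toAlgebra
  have h1 : Algebra.Etale (S.residueField (e s')) (S'.residueField s') := etale_residueField e s'
  have h2 : Module.Finite (S.residueField (e s')) (S'.residueField s') :=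
    Algebra.FormallyUnramified.finite_of_free _ _
  exact Algebra.IsAlgebraic.of_finite _ _

end res

/-- In a commutative square with étale vertical maps, the induced map of fibres is étale. -/
theorem etale_fiberMap {U U' V V' : Scheme.{u}} (h : U ⟶ V) (h' : U' ⟶ V') (a : U' ⟶ U)
    (b : V' ⟶ V) [Etale a] [Etale b] (comm : h' ≫ b = a ≫ h) (v' : V')
    (φ : h'.fiber v' ⟶ h.fiber (b v')) (hφ1 : φ ≫ h.fiberι (b v') = h'.fiberι v' ≫ a)
    (hφ2 : φ ≫ h.fiberToSpecResidueField (b v') =
      h'.fiberToSpecResidueField v' ≫ Spec.map (b.residueFieldMap v')) :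
    Etale φ := by
  -- `Z = U ×_V V'`
  let l : U' ⟶ pullback h b := pullback.lift a h' comm.symm
  have hl : Etale l := by
    have h1 : Etale (l ≫ pullback.fst h b) := by rw [pullback.lift_fst]; infer_instance
    exact Etale.of_comp l (pullback.fst h b)
  -- the fibre of `U'` over `v'` in `(U ×_V V')_{v'}`
  let m : h'.fiber v' ⟶ (pullback.snd h b).fiber v' :=
    pullback.lift (h'.fiberι v' ≫ l) (h'.fiberToSpecResidueField v')
      (by rw [Category.assoc, pullback.lift_snd, Scheme.Hom.fiber_fac])
  have hm1 : m ≫ (pullback.snd h b).fiberι v' = h'.fiberι v' ≫ l := pullback.lift_fst _ _ _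
  have hm2 : m ≫ (pullback.snd h b).fiberToSpecResidueField v' = h'.fiberToSpecResidueField v' :=
    pullback.lift_snd _ _ _
  have hm : Etale m := by
    have h2 : IsPullback (h'.fiberι v') m l ((pullback.snd h b).fiberι v') := by
      refine IsPullback.of_bot (v₂₁ := (pullback.snd h b).fiberToSpecResidueField v')
        (v₂₂ := pullback.snd h b) (h₃₁ := V'.fromSpecResidueField v') ?_ hm1.symm
        (IsPullback.of_hasPullback _ _)
      rw [hm2, pullback.lift_snd]
      exact IsPullback.of_hasPullback _ _
    exact MorphismProperty.of_isPullback (P := @Etale) h2 hl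
  have hn := isPullback_fiberToSpecResidueField_of_isPullback (IsPullback.of_hasPullback h b) v'
  have h3 := etale_specMap_residueFieldMap b v'
  have h4 := MorphismProperty.of_isPullback (P := @Etale) hn.flip h3
  let n : (pullback.snd h b).fiber v' ⟶ h.fiber (b v') :=
    pullback.map _ _ _ _ (pullback.fst h b) (Spec.map (b.residueFieldMap v')) b
      (IsPullback.of_hasPullback h b).w.symm (by simp)
  have hn1 : n ≫ h.fiberι (b v') = (pullback.snd h b).fiberι v' ≫ pullback.fst h b := pullback.lift_fst _ _ _
  have hn2 : n ≫ h.fiberToSpecResidueField (b v') =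
      (pullback.snd h b).fiberToSpecResidueField v' ≫ Spec.map (b.residueFieldMap v') := pullback.lift_snd _ _ _
  have h4 : Etale n := h4
  have hmn : φ = m ≫ n := by
    apply (IsPullback.of_hasPullback h (V.fromSpecResidueField (b v'))).hom_ext
    · show φ ≫ h.fiberι (b v') = (m ≫ n) ≫ h.fiberι (b v')
      rw [hφ1, Category.assoc, hn1, ← Category.assoc, hm1, Category.assoc, pullback.lift_fst]
    · show φ ≫ h.fiberToSpecResidueField (b v') = (m ≫ n) ≫ h.fiberToSpecResidueField (b v')
      rw [hφ2, Category.assoc, hn2, ← Category.assoc, hm2]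
  rw [hmn]
  infer_instance

/-- The transcendence degree does not change under algebraic extensions of both fields. -/
theorem trdeg_eq {K L K' L' : Type u} [Field K] [Field L] [Field K'] [Field L'] (α : K →+* L)
    (β : L →+* L') (γ : K' →+* L') (δ : K →+* K') (hc : β.comp α = γ.comp δ)
    (hβ : @Algebra.IsAlgebraic L L' _ _ β.toAlgebra) (hδ : @Algebra.IsAlgebraic K K' _ _ δ.toAlgebra) :
    @Algebra.trdeg K L _ _ α.toAlgebra = @Algebra.trdeg K' L' _ _ γ.toAlgebra := by
  let : Algebra K L := α.toAlgebra
  let : Algebra L L' := β.toAlgebra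
  let : Algebra K' L' := γ.toAlgebra
  let : Algebra K K' := δ.toAlgebra
  let : Algebra K L' := (β.comp α).toAlgebra
  have : IsScalarTower K L L' := IsScalarTower.of_algebraMap_eq fun _ => rfl
  have : IsScalarTower K K' L' := IsScalarTower.of_algebraMap_eq fun x => by
    show (β.comp α) x = _
    rw [hc]; rfl
  have h1 := _root_.trdeg_add_eq K L (A := L')
  have h2 := _root_.trdeg_add_eq K K' (A := L')
  have h3 : Algebra.trdeg L L' = 0 := trdeg_eq_zero
  have h4 : Algebra.trdeg K K' = 0 := trdeg_eq_zero
  rw [h3, add_zero] at h1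
  rw [h4, zero_add] at h2
  exact h1.trans h2.symm

theorem trdeg_residueField_eq {U U' V V' : Scheme.{u}} (h : U ⟶ V) (h' : U' ⟶ V') (a : U' ⟶ U)
    (b : V' ⟶ V) [Etale a] [Etale b] (comm : h' ≫ b = a ≫ h) (u' : U') :
    @Algebra.trdeg (V.residueField (h (a u'))) (U.residueField (a u')) _ _ (h.residueFieldMap (a u')).hom.toAlgebra =
      @Algebra.trdeg (V'.residueField (h' u')) (U'.residueField u') _ _ (h'.residueFieldMap u').hom.toAlgebra := by
  have hpt : b (h' u') = h (a u') := by
    have := congrArg (fun φ : U' ⟶ V => φ u') comm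
    exact this
  have hres : (V.residueFieldCongr hpt.symm).hom ≫ b.residueFieldMap (h' u') ≫ h'.residueFieldMap u' =
      h.residueFieldMap (a u') ≫ a.residueFieldMap u' := by
    have h1 := Scheme.residueFieldMap_comp h' b u'
    have h2 := Scheme.residueFieldMap_comp a h u'
    have h3 := Scheme.Hom.residueFieldMap_congr comm.symm u'
    rw [← h1, ← h2]
    exact h3.symm
  refine trdeg_eq _ (a.residueFieldMap u').hom _
    ((V.residueFieldCongr hpt.symm).hom ≫ b.residueFieldMap (h' u')).hom ?_ (isAlgebraic_residueFieldMap a u') ?_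
  · have := congrArg CommRingCat.Hom.hom hres
    simp only [CommRingCat.hom_comp] at this ⊢
    rw [← this, RingHom.comp_assoc]
  · have h1 := isAlgebraic_residueFieldMap b (h' u')
    have : ∀ {y : V} (hy : y = b (h' u')), @Algebra.IsAlgebraic (V.residueField y) (V'.residueField (h' u')) _ _
        ((V.residueFieldCongr hy).hom ≫ b.residueFieldMap (h' u')).hom.toAlgebra := by
      rintro _ rfl
      rw [Scheme.residueFieldCongr_refl]
      simpa using h1
    exact this hpt.symm

end K388.EtaleFib
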