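import Mathlib.AlgebraicGeometry.Sites.Fpqc

/-!
# fpqc covering families are topological quotient maps
-/

set_option autoImplicit false
set_option backward.isDefEq.respectTransparency false
set_option backward.isDefEq.respectTransparency.types false
open CategoryTheory CategoryTheory.Limits AlgebraicGeometry
universe v u

namespace K388.FpqcTop

variable {T : Scheme.{u}} {ι : Type v} {Ti : ι → Scheme.{u}} (f : ∀ i, Ti i ⟶ T)

omit f in
/-- A subset is open if its inverse images on the members of an open cover are. -/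
theorem isOpen_of_cover {Y : Scheme.{u}} (𝒰 : Y.OpenCover) (V : Set Y) (h : ∀ i, IsOpen (𝒰.f i ⁻¹' V)) :
    IsOpen V := by
  rw [isOpen_iff_forall_mem_open]
  intro y hy
  obtain ⟨i, x, rfl⟩ := 𝒰.exists_eq y
  exact ⟨𝒰.f i '' (𝒰.f i ⁻¹' V), by rintro _ ⟨x, hx, rfl⟩; exact hx,
    (𝒰.f i).isOpenEmbedding.isOpenMap _ (h i), x, hy, rfl⟩

theorem flat_of_mem (hf : Presieve.ofArrows Ti f ∈ Scheme.fpqcPrecoverage T) (i : ι) : Flat (f i) := by
  have h : Presieve.ofArrows Ti f ∈ Scheme.precoverage @Flat T := hf.2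
  rw [Scheme.ofArrows_mem_precoverage_iff] at h
  exact h.2 i

theorem exists_of_mem (hf : Presieve.ofArrows Ti f ∈ Scheme.fpqcPrecoverage T) (t : T) :
    ∃ i, t ∈ Set.range (f i) := by
  have h : Presieve.ofArrows Ti f ∈ Scheme.precoverage @Flat T := hf.2
  rw [Scheme.ofArrows_mem_precoverage_iff] at h
  exact h.1 t

/-- Over an affine open, an fpqc cover is refined by one flat surjective morphism from an affine scheme,
which is a finite disjoint union of affine opens of the members. -/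
theorem exists_affine (hf : Presieve.ofArrows Ti f ∈ Scheme.fpqcPrecoverage T) (U : T.Opens) (hU : IsAffineOpen U) :
    ∃ (n : ℕ) (α : Fin n → ι) (O : ∀ k, (Ti (α k)).Opens) (hle : ∀ k, O k ≤ f (α k) ⁻¹ᵁ U),
      (∀ k, IsAffineOpen (O k)) ∧
      Flat (Sigma.desc fun k => (f (α k)).resLE U (O k) (hle k)) ∧
      Surjective (Sigma.desc fun k => (f (α k)).resLE U (O k) (hle k)) := by
  have hfl := flat_of_mem f hf
  let E : PreZeroHypercover.{v} T := { I₀ := ι, X := Ti, f := f }
  have hE : QuasiCompactCover E := Scheme.presieve₀_mem_qcPrecoverage_iff.1 hf.1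
  obtain ⟨n, α, O, hO, h⟩ := QuasiCompactCover.exists_isAffineOpen_of_isCompact E hU.isCompact
  have hle : ∀ k, O k ≤ f (α k) ⁻¹ᵁ U := fun k x hx => by
    show f (α k) x ∈ (U : Set T)
    rw [← h]
    exact Set.mem_iUnion.2 ⟨k, x, hx, rfl⟩
  refine ⟨n, α, O, hle, hO, ?_, ?_⟩
  · have : ∀ k, Flat ((f (α k)).resLE U (O k) (hle k)) := fun k => by
      have := hfl (α k)
      infer_instance
    exact IsZariskiLocalAtSource.sigmaDesc this
  · constructor
    intro y
    have hy : y.1 ∈ ⋃ i, E.f (α i) '' (O i) := by rw [h]; exact y.2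
    obtain ⟨k, x, hx, hxy⟩ := Set.mem_iUnion.1 hy
    refine ⟨Sigma.ι (fun k : Fin n => (O k : Scheme.{u})) k ⟨x, hx⟩, ?_⟩
    rw [← Scheme.Hom.comp_apply, Sigma.ι_desc]
    apply Subtype.ext
    rw [Scheme.Hom.coe_resLE_apply]
    exact hxy

/-- A subset of the target of an fpqc covering family is open if all its inverse images are. -/
theorem isOpen_of_preimage (hf : Presieve.ofArrows Ti f ∈ Scheme.fpqcPrecoverage T) {V : Set T}
    (hV : ∀ i, IsOpen (f i ⁻¹' V)) : IsOpen V := by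
  rw [isOpen_iff_forall_mem_open]
  intro t ht
  obtain ⟨U, hU, htU, -⟩ := exists_isAffineOpen_mem_and_subset (x := t) (U := (⊤ : T.Opens)) trivial
  obtain ⟨n, α, O, hle, hO, h1, h2⟩ := exists_affine f hf U hU
  have : ∀ k, IsAffine (O k : Scheme.{u}) := fun k => hO k
  have : IsAffine (U : Scheme.{u}) := hU
  have hq := Flat.isQuotientMap_of_surjective (Sigma.desc fun k => (f (α k)).resLE U (O k) (hle k))
  have h3 : IsOpen (U.ι ⁻¹' V) := by
    rw [← hq.isOpen_preimage]
    refine isOpen_of_cover (sigmaOpenCover (fun k : Fin n => (O k : Scheme.{u}))) _ fun k => ?_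
    have h5 : (sigmaOpenCover (fun k : Fin n => (O k : Scheme.{u}))).f k ≫
        (Sigma.desc fun k => (f (α k)).resLE U (O k) (hle k)) ≫ U.ι = (O k).ι ≫ f (α k) := by
      rw [sigmaOpenCover_f, Sigma.ι_desc_assoc, Scheme.Hom.resLE_comp_ι]
    have h4 : (sigmaOpenCover (fun k : Fin n => (O k : Scheme.{u}))).f k ⁻¹'
        ((Sigma.desc fun k => (f (α k)).resLE U (O k) (hle k)) ⁻¹' (U.ι ⁻¹' V)) =
        (O k).ι ⁻¹' (f (α k) ⁻¹' V) := by
      ext x
      have h6 := congrArg (fun φ : (O k : Scheme.{u}) ⟶ T => φ x ∈ V) h5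
      exact iff_of_eq h6
    rw [h4]
    exact (hV (α k)).preimage (O k).ι.continuous
  refine ⟨U.ι '' (U.ι ⁻¹' V), ?_, ?_, ?_⟩
  · rintro _ ⟨x, hx, rfl⟩; exact hx
  · exact U.ι.isOpenEmbedding.isOpenMap _ h3
  · exact ⟨⟨t, htU⟩, ht, rfl⟩

end K388.FpqcTop
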