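import Mathlib.Algebra.Colimit.Ring
import Mathlib.AlgebraicGeometry.AffineScheme

/-!
# Functions on a decreasing sequence of opens

For a decreasing sequence `O` of opens of a scheme `Y` the ring `G O` is the colimit of the rings
`Γ(Y, O n)`; `Sp O` is its spectrum.
-/

set_option autoImplicit false
open CategoryTheory CategoryTheory.Limits AlgebraicGeometry
universe u

namespace K388.Germ

/-- decreasing sequence of opens -/
structure Sq (Y : Scheme.{u}) where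
  W : ℕ → Y.Opens
  anti : Antitone W

variable {X Y Z T S : Scheme.{u}}

/-- restriction -/
noncomputable def res (O : Sq Y) (i j : ℕ) (h : i ≤ j) : Γ(Y, O.W i) →+* Γ(Y, O.W j) :=
  (Y.presheaf.map (homOfLE (O.anti h)).op).hom

instance (O : Sq Y) : DirectedSystem (fun n => Γ(Y, O.W n)) fun i j h => res O i j h where
  map_self i x := by
    show (Y.presheaf.map (homOfLE _).op).hom x = x
    have : (homOfLE (O.anti (le_refl i))) = 𝟙 _ := rfl
    rw [this, op_id, Y.presheaf.map_id]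
    rfl
  map_map {i j k} hij hjk x := by
    show (Y.presheaf.map (homOfLE _).op).hom ((Y.presheaf.map (homOfLE _).op).hom x) =
      (Y.presheaf.map (homOfLE _).op).hom x
    rw [← CommRingCat.comp_apply, ← Y.presheaf.map_comp]
    rfl

/-- the ring of functions on the sequence -/
def G (O : Sq Y) : Type u := Ring.DirectLimit (fun n => Γ(Y, O.W n)) (fun i j h => res O i j h)

noncomputable instance (O : Sq Y) : CommRing (G O) := inferInstanceAs (CommRing (Ring.DirectLimit _ _))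

/-- the canonical map -/
noncomputable def of (O : Sq Y) (n : ℕ) : Γ(Y, O.W n) →+* G O :=
  Ring.DirectLimit.of (fun n => Γ(Y, O.W n)) (fun i j h => res O i j h) n

theorem of_res (O : Sq Y) {i j : ℕ} (h : i ≤ j) (x : Γ(Y, O.W i)) : of O j (res O i j h x) = of O i x :=
  Ring.DirectLimit.of_f (G := fun n => Γ(Y, O.W n)) (f := fun i j h => res O i j h) (i := i) (j := j) h x

theorem exists_of (O : Sq Y) (x : G O) : ∃ n y, of O n y = x :=
  Ring.DirectLimit.exists_of x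

theorem exists_res_eq_zero (O : Sq Y) {n : ℕ} {x : Γ(Y, O.W n)} (h : of O n x = 0) :
    ∃ k, ∃ h : n ≤ k, res O n k h x = 0 :=
  Ring.DirectLimit.of.zero_exact h

theorem exists_res_eq (O : Sq Y) {n : ℕ} {x y : Γ(Y, O.W n)} (h : of O n x = of O n y) :
    ∃ k, ∃ h : n ≤ k, res O n k h x = res O n k h y := by
  obtain ⟨k, hk, h1⟩ := exists_res_eq_zero O (n := n) (x := x - y) (by rw [map_sub, h, sub_self])
  exact ⟨k, hk, by rwa [map_sub, sub_eq_zero] at h1⟩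

/-- the universal property -/
noncomputable def lift (O : Sq Y) {B : Type u} [CommRing B] (g : ∀ n, Γ(Y, O.W n) →+* B)
    (hg : ∀ i j (h : i ≤ j) x, g j (res O i j h x) = g i x) : G O →+* B :=
  Ring.DirectLimit.lift _ _ B g hg

theorem lift_of (O : Sq Y) {B : Type u} [CommRing B] (g : ∀ n, Γ(Y, O.W n) →+* B)
    (hg : ∀ i j (h : i ≤ j) x, g j (res O i j h x) = g i x) (n : ℕ) (x : Γ(Y, O.W n)) :
    lift O g hg (of O n x) = g n x :=
  Ring.DirectLimit.lift_of _ _ _ _ _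

theorem hom_ext (O : Sq Y) {B : Type u} [CommRing B] {g g' : G O →+* B}
    (h : ∀ n x, g (of O n x) = g' (of O n x)) : g = g' := by
  ext x
  obtain ⟨n, y, rfl⟩ := exists_of O x
  exact h n y

/-- The values of functions pulled back along a morphism do not depend on the index. -/
theorem appLE_res (O : Sq Y) (g : T ⟶ Y) {i j : ℕ} (h : i ≤ j) {V : T.Opens} (hj : V ≤ g ⁻¹ᵁ O.W j)
    (hi : V ≤ g ⁻¹ᵁ O.W i) (x : Γ(Y, O.W i)) :
    (g.appLE (O.W j) V hj).hom (res O i j h x) = (g.appLE (O.W i) V hi).hom x := by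
  have := g.map_appLE (U := O.W j) (V := V) (U' := O.W i) hj (homOfLE (O.anti h)).op
  exact congrArg (fun f => f.hom x) this

/-- The canonical map and restriction -/
theorem of_appLE (O' : Sq T) (g : T ⟶ Y) {U : Y.Opens} {k l : ℕ} (hk : O'.W k ≤ g ⁻¹ᵁ U)
    (hl : O'.W l ≤ g ⁻¹ᵁ U) (x : Γ(Y, U)) :
    of O' k ((g.appLE U (O'.W k) hk).hom x) = of O' l ((g.appLE U (O'.W l) hl).hom x) := by
  wlog h : k ≤ l
  · exact (this O' g hl hk x (le_of_not_ge h)).symm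
  rw [← of_res O' h]
  congr 1
  have := g.appLE_map (U := U) (V := O'.W k) (V' := O'.W l) hk (homOfLE (O'.anti h)).op
  exact congrArg (fun f => f.hom x) this

/-- pullback of functions -/
noncomputable def map (O : Sq Y) (O' : Sq T) (g : T ⟶ Y) (h : ∀ n, ∃ k, O'.W k ≤ g ⁻¹ᵁ O.W n) : G O →+* G O' :=
  lift O (fun n => (of O' (h n).choose).comp (g.appLE (O.W n) (O'.W (h n).choose) (h n).choose_spec).hom)
    (fun i j hij x => by
      show of O' (h j).choose ((g.appLE (O.W j) _ _).hom (res O i j hij x)) =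
        of O' (h i).choose ((g.appLE (O.W i) _ _).hom x)
      rw [appLE_res O g hij (h j).choose_spec ((h j).choose_spec.trans (g.preimage_mono (O.anti hij)))]
      exact of_appLE O' g _ _ x)

theorem map_of (O : Sq Y) (O' : Sq T) (g : T ⟶ Y) (h : ∀ n, ∃ k, O'.W k ≤ g ⁻¹ᵁ O.W n) {n k : ℕ}
    (hk : O'.W k ≤ g ⁻¹ᵁ O.W n) (x : Γ(Y, O.W n)) :
    map O O' g h (of O n x) = of O' k ((g.appLE (O.W n) (O'.W k) hk).hom x) := by
  rw [map, lift_of]
  exact of_appLE O' g _ _ x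

theorem map_map {O : Sq Y} {O' : Sq T} {O'' : Sq Z} (g : T ⟶ Y) (f : Z ⟶ T)
    (h : ∀ n, ∃ k, O'.W k ≤ g ⁻¹ᵁ O.W n) (h' : ∀ n, ∃ k, O''.W k ≤ f ⁻¹ᵁ O'.W n)
    (h'' : ∀ n, ∃ k, O''.W k ≤ (f ≫ g) ⁻¹ᵁ O.W n) :
    (map O' O'' f h').comp (map O O' g h) = map O O'' (f ≫ g) h'' := by
  apply hom_ext
  intro n x
  obtain ⟨k, hk⟩ := h n
  obtain ⟨l, hl⟩ := h' k
  have hl' : O''.W l ≤ (f ≫ g) ⁻¹ᵁ O.W n := hl.trans (f.preimage_mono hk)
  rw [RingHom.comp_apply, map_of O O' g h hk, map_of O' O'' f h' hl, map_of O O'' _ _ hl']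
  congr 1
  exact congrArg (fun e => e.hom x) (Scheme.Hom.appLE_comp_appLE f g (O.W n) (O'.W k) (O''.W l) hk hl)

theorem map_id (O : Sq Y) (h : ∀ n, ∃ k, O.W k ≤ (𝟙 Y : Y ⟶ Y) ⁻¹ᵁ O.W n) :
    map O O (𝟙 Y) h = RingHom.id _ := by
  apply hom_ext
  intro n x
  rw [map_of O O (𝟙 Y) h (k := n) le_rfl, RingHom.id_apply]
  congr 1
  have h2 : Scheme.Hom.appLE (𝟙 Y) (O.W n) (O.W n) le_rfl = 𝟙 _ :=
    (Scheme.Hom.appLE_eq_app (𝟙 Y) (U := O.W n)).trans (Scheme.Hom.id_app _)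
  exact congrArg (fun e => e.hom x) h2

/-- evaluation -/
noncomputable def ev (O : Sq Y) (g : T ⟶ Y) (h : ∀ n, (⊤ : T.Opens) ≤ g ⁻¹ᵁ O.W n) : G O →+* Γ(T, ⊤) :=
  lift O (fun n => (g.appLE (O.W n) ⊤ (h n)).hom) (fun _ _ hij x => appLE_res O g hij _ _ x)

theorem ev_of (O : Sq Y) (g : T ⟶ Y) (h : ∀ n, (⊤ : T.Opens) ≤ g ⁻¹ᵁ O.W n) (n : ℕ) (x : Γ(Y, O.W n)) :
    ev O g h (of O n x) = (g.appLE (O.W n) ⊤ (h n)).hom x := lift_of _ _ _ _ _

/-- the structure map -/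
noncomputable def str (O : Sq Y) (f : Y ⟶ X) : Γ(X, ⊤) →+* G O :=
  (of O 0).comp (f.appLE ⊤ (O.W 0) le_top).hom

theorem str_apply (O : Sq Y) (f : Y ⟶ X) (n : ℕ) (a : Γ(X, ⊤)) :
    str O f a = of O n ((f.appLE ⊤ (O.W n) le_top).hom a) :=
  of_appLE O f _ _ a

theorem map_str {O : Sq Y} {O' : Sq T} (g : T ⟶ Y) (h : ∀ n, ∃ k, O'.W k ≤ g ⁻¹ᵁ O.W n) (f : Y ⟶ X) :
    (map O O' g h).comp (str O f) = str O' (g ≫ f) := by
  ext a
  obtain ⟨k, hk⟩ := h 0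
  rw [RingHom.comp_apply, str_apply O f 0, map_of O O' g h hk, str_apply O' (g ≫ f) k]
  congr 1
  exact congrArg (fun e => e.hom a) (Scheme.Hom.appLE_comp_appLE g f ⊤ (O.W 0) (O'.W k) le_top hk)

theorem ev_map {O : Sq Y} {O' : Sq T} (g : T ⟶ Y) (h : ∀ n, ∃ k, O'.W k ≤ g ⁻¹ᵁ O.W n) (f : Z ⟶ T)
    (h' : ∀ n, (⊤ : Z.Opens) ≤ f ⁻¹ᵁ O'.W n) (h'' : ∀ n, (⊤ : Z.Opens) ≤ (f ≫ g) ⁻¹ᵁ O.W n) :
    (ev O' f h').comp (map O O' g h) = ev O (f ≫ g) h'' := by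
  apply hom_ext
  intro n x
  obtain ⟨k, hk⟩ := h n
  rw [RingHom.comp_apply, map_of O O' g h hk, ev_of, ev_of]
  exact congrArg (fun e => e.hom x) (Scheme.Hom.appLE_comp_appLE f g (O.W n) (O'.W k) ⊤ hk (h' k))

theorem ev_str {O : Sq Y} (f : Y ⟶ X) (g : T ⟶ Y)
    (h : ∀ n, (⊤ : T.Opens) ≤ g ⁻¹ᵁ O.W n) :
    (ev O g h).comp (str O f) = ((g ≫ f).appLE ⊤ ⊤ le_top).hom := by
  ext a
  rw [RingHom.comp_apply, str_apply O f 0, ev_of]
  exact congrArg (fun e => e.hom a) (Scheme.Hom.appLE_comp_appLE g f ⊤ (O.W 0) ⊤ le_top (h 0))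

theorem appTop_ev {O : Sq Y} (g : T ⟶ Y) (h : ∀ n, (⊤ : T.Opens) ≤ g ⁻¹ᵁ O.W n) (f : Z ⟶ T)
    (h' : ∀ n, (⊤ : Z.Opens) ≤ (f ≫ g) ⁻¹ᵁ O.W n) :
    (f.appTop.hom).comp (ev O g h) = ev O (f ≫ g) h' := by
  apply hom_ext
  intro n x
  rw [RingHom.comp_apply, ev_of, ev_of]
  have h1 := Scheme.Hom.appLE_comp_appLE f g (O.W n) ⊤ ⊤ (h n) le_top
  rw [← h1, Scheme.Hom.appTop, Scheme.Hom.app_eq_appLE]
  rfl

end K388.Germ
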