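import Groth.Agent.Desc.K388.Germ
import Mathlib.AlgebraicGeometry.Morphisms.Flat

/-!
# Flat base change for functions on a decreasing sequence of quasi-compact opens
-/

set_option autoImplicit false
open CategoryTheory CategoryTheory.Limits AlgebraicGeometry
universe u

namespace K388.Germ

variable {X Y Z T S : Scheme.{u}}

/-- the structure map as a morphism in `CommRingCat` -/
noncomputable def strC (O : Sq Y) (f : Y ⟶ X) : Γ(X, ⊤) ⟶ CommRingCat.of (G O) := CommRingCat.ofHom (str O f)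

/-- pullback of functions as a morphism in `CommRingCat` -/
noncomputable def mapC (O : Sq Y) (O' : Sq T) (g : T ⟶ Y) (h : ∀ n, ∃ k, O'.W k ≤ g ⁻¹ᵁ O.W n) :
    CommRingCat.of (G O) ⟶ CommRingCat.of (G O') := CommRingCat.ofHom (map O O' g h)

/-- the canonical maps as a morphism in `CommRingCat` -/
noncomputable def ofC (O : Sq Y) (n : ℕ) : Γ(Y, O.W n) ⟶ CommRingCat.of (G O) := CommRingCat.ofHom (of O n)

theorem ofC_mapC (O : Sq Y) (O' : Sq T) (g : T ⟶ Y) (h : ∀ n, ∃ k, O'.W k ≤ g ⁻¹ᵁ O.W n) {n k : ℕ}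
    (hk : O'.W k ≤ g ⁻¹ᵁ O.W n) : ofC O n ≫ mapC O O' g h = g.appLE (O.W n) (O'.W k) hk ≫ ofC O' k := by
  ext x
  exact map_of O O' g h hk x

theorem strC_eq (O : Sq Y) (f : Y ⟶ X) (n : ℕ) : strC O f = f.appLE ⊤ (O.W n) le_top ≫ ofC O n := by
  ext x
  exact str_apply O f n x

theorem strC_mapC {O : Sq Y} {O' : Sq T} (g : T ⟶ Y) (h : ∀ n, ∃ k, O'.W k ≤ g ⁻¹ᵁ O.W n) (f : Y ⟶ X) :
    strC O f ≫ mapC O O' g h = strC O' (g ≫ f) := by
  ext x
  exact congrArg (fun e => e x) (map_str g h f)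

theorem appLE_top_map (c : Z ⟶ X) {V V' : Z.Opens} (h : V' ≤ V) :
    c.appLE ⊤ V le_top ≫ Z.presheaf.map (homOfLE h).op = c.appLE ⊤ V' le_top := c.appLE_map _ _

theorem appTop_strC (O : Sq Y) (f : Y ⟶ X) (g : X ⟶ S) : g.appTop ≫ strC O f = strC O (f ≫ g) := by
  rw [strC_eq O f 0, strC_eq O (f ≫ g) 0, ← Category.assoc]
  congr 1

theorem ofC_hom_ext (O : Sq Y) {B : CommRingCat.{u}} {g g' : CommRingCat.of (G O) ⟶ B}
    (h : ∀ n, ofC O n ≫ g = ofC O n ≫ g') : g = g' := by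
  ext x
  obtain ⟨n, y, rfl⟩ := exists_of O x
  exact congrArg (fun e => e.hom y) (h n)

/-- the universal property in `CommRingCat` -/
noncomputable def liftC (O : Sq Y) {B : CommRingCat.{u}} (g : ∀ n, Γ(Y, O.W n) ⟶ B)
    (hg : ∀ i j (h : i ≤ j), Y.presheaf.map (homOfLE (O.anti h)).op ≫ g j = g i) : CommRingCat.of (G O) ⟶ B :=
  CommRingCat.ofHom (lift O (fun n => (g n).hom) (fun i j h x => congrArg (fun e => e.hom x) (hg i j h)))

theorem ofC_liftC (O : Sq Y) {B : CommRingCat.{u}} (g : ∀ n, Γ(Y, O.W n) ⟶ B)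
    (hg : ∀ i j (h : i ≤ j), Y.presheaf.map (homOfLE (O.anti h)).op ≫ g j = g i) (n : ℕ) :
    ofC O n ≫ liftC O g hg = g n := by
  ext x
  exact lift_of O (fun n => (g n).hom) (fun i j h x => congrArg (fun e => e.hom x) (hg i j h)) n x

theorem cond_level (O : Sq Y) (y : Y ⟶ S) {p : X ⟶ S} {B : CommRingCat.{u}} (f : CommRingCat.of (G O) ⟶ B)
    (v : Γ(X, ⊤) ⟶ B) (h : strC O y ≫ f = p.appTop ≫ v) (n : ℕ) :
    y.appLE ⊤ (O.W n) le_top ≫ ofC O n ≫ f = p.appTop ≫ v := by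
  rw [← h, strC_eq O y n, Category.assoc]

variable {b : Z ⟶ Y} {c : Z ⟶ X} {y : Y ⟶ S} {p : X ⟶ S}

theorem isPushout_level (H : IsPullback b c y p) [Flat p] [IsAffine X] [IsAffine S] [QuasiSeparatedSpace Y]
    (U : Y.Opens) (hU : IsCompact (U : Set Y)) (V : Z.Opens) (hV : V = b ⁻¹ᵁ U) :
    IsPushout (y.appLE ⊤ U le_top) p.appTop (b.appLE U V hV.le) (c.appLE ⊤ V le_top) := by
  have h0 : V = b ⁻¹ᵁ U ⊓ c ⁻¹ᵁ ⊤ := by rw [hV]; exact (inf_top_eq _).symm
  have h1 := isIso_pushoutSection_of_isQuasiSeparated_of_flat_right (US := ⊤) (UT := ⊤) (UX := U) (UY := V) H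
    le_top le_top h0 (isAffineOpen_top S) (isAffineOpen_top X) hU
    (IsQuasiSeparated.of_quasiSeparatedSpace _)
  have h2 := (isIso_pushoutSection_iff H (US := ⊤) (UT := ⊤) (UX := U) (UY := V) le_top le_top h0).1 h1
  rw [Scheme.Hom.appTop, Scheme.Hom.app_eq_appLE]
  exact h2

theorem isPushout_germ (H : IsPullback b c y p) [Flat p] [IsAffine X] [IsAffine S] [QuasiSeparatedSpace Y]
    (O : Sq Y) (hO : ∀ n, IsCompact (O.W n : Set Y)) (O' : Sq Z) (hO' : ∀ n, O'.W n = b ⁻¹ᵁ O.W n) :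
    IsPushout (strC O y) p.appTop (mapC O O' b (fun n => ⟨n, (hO' n).le⟩)) (strC O' c) := by
  have hl := fun n => isPushout_level H (O.W n) (hO n) (O'.W n) (hO' n)
  have hb : ∀ n, ofC O n ≫ mapC O O' b (fun n => ⟨n, (hO' n).le⟩) =
      b.appLE (O.W n) (O'.W n) (hO' n).le ≫ ofC O' n := fun n => ofC_mapC O O' b _ _
  have hw : strC O y ≫ mapC O O' b (fun n => ⟨n, (hO' n).le⟩) = p.appTop ≫ strC O' c := by
    rw [strC_mapC, appTop_strC, H.w]
  refine ⟨⟨hw⟩, ⟨PushoutCocone.IsColimit.mk hw (fun s => ?_) ?_ ?_ ?_⟩⟩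
  · refine liftC O' (fun n => (hl n).desc (ofC O n ≫ s.inl) s.inr (cond_level O y _ _ s.condition n)) ?_
    · intro i j h
      apply (hl i).hom_ext
      · rw [(hl i).inl_desc, ← Category.assoc, b.appLE_map]
        have h1 : b.appLE (O.W i) (O'.W j) ((O'.anti h).trans (hO' i).le) =
            Y.presheaf.map (homOfLE (O.anti h)).op ≫ b.appLE (O.W j) (O'.W j) (hO' j).le := by
          rw [b.map_appLE]
        have h2 : Y.presheaf.map (homOfLE (O.anti h)).op ≫ ofC O j = ofC O i := by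
          ext x
          exact of_res O h x
        have h3 : b.appLE (O.W i) (O'.W j) ((O'.anti h).trans (hO' i).le) ≫
            (hl j).desc (ofC O j ≫ s.inl) s.inr (cond_level O y _ _ s.condition j) = ofC O i ≫ s.inl := by
          rw [h1, Category.assoc, (hl j).inl_desc, ← Category.assoc, h2]
        exact h3
      · rw [(hl i).inr_desc, ← Category.assoc, appLE_top_map c (O'.anti h)]
        exact (hl j).inr_desc _ _ _
  · intro s
    apply ofC_hom_ext
    intro n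
    rw [← Category.assoc, hb n, Category.assoc, ofC_liftC, (hl n).inl_desc]
  · intro s
    rw [strC_eq O' c 0, Category.assoc, ofC_liftC, (hl 0).inr_desc]
  · intro s m hm1 hm2
    apply ofC_hom_ext
    intro n
    rw [ofC_liftC]
    apply (hl n).hom_ext
    · rw [(hl n).inl_desc, ← Category.assoc, ← hb n, Category.assoc, hm1]
    · rw [(hl n).inr_desc, ← Category.assoc, ← strC_eq, hm2]

end K388.Germ
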