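import Groth.Prelude.Def_Desc

/-!
# Descent data from truncated simplicial data
-/

set_option autoImplicit false
set_option backward.isDefEq.respectTransparency false
set_option backward.isDefEq.respectTransparency.types false
open CategoryTheory CategoryTheory.Limits AlgebraicGeometry
universe u

namespace K388.SimpDD

open _root_.Desc

variable {X S : Scheme.{u}}

/-- A descent datum relative to `p` presented by the fibre products `P = H ×_S X`, `Q = P ×_S X`. -/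
structure Simp (p : X ⟶ S) where
  H : Scheme.{u}
  P : Scheme.{u}
  Q : Scheme.{u}
  w : H ⟶ X
  a : P ⟶ H
  b : P ⟶ X
  hP : IsPullback a b (w ≫ p) p
  t : P ⟶ H
  t_w : t ≫ w = b
  e : H ⟶ P
  e_a : e ≫ a = 𝟙 _
  e_b : e ≫ b = w
  e_t : e ≫ t = 𝟙 _
  m01 : Q ⟶ P
  m02 : Q ⟶ P
  c : Q ⟶ P
  d : Q ⟶ X
  hQ : IsPullback m01 d (a ≫ w ≫ p) p
  m02_a : m02 ≫ a = m01 ≫ a
  m02_b : m02 ≫ b = d
  c_a : c ≫ a = m01 ≫ t
  c_b : c ≫ b = d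
  c_t : c ≫ t = m02 ≫ t

variable {p : X ⟶ S} (s : Simp p)

namespace Simp

/-- transport of points -/
noncomputable def tr {T : Scheme.{u}} (y : T ⟶ s.H) (x : T ⟶ X) (h : y ≫ s.w ≫ p = x ≫ p) : T ⟶ s.H :=
  s.hP.lift y x h ≫ s.t

theorem tr_w {T : Scheme.{u}} (y : T ⟶ s.H) (x : T ⟶ X) (h : y ≫ s.w ≫ p = x ≫ p) : s.tr y x h ≫ s.w = x := by
  rw [tr, Category.assoc, s.t_w, s.hP.lift_snd]

theorem tr_self {T : Scheme.{u}} (y : T ⟶ s.H) (x : T ⟶ X) (h : y ≫ s.w ≫ p = x ≫ p) (hx : y ≫ s.w = x) :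
    s.tr y x h = y := by
  have h1 : s.hP.lift y x h = y ≫ s.e := by
    apply s.hP.hom_ext
    · rw [s.hP.lift_fst, Category.assoc, s.e_a, Category.comp_id]
    · rw [s.hP.lift_snd, Category.assoc, s.e_b, hx]
  rw [tr, h1, Category.assoc, s.e_t, Category.comp_id]

theorem tr_tr {T : Scheme.{u}} (y : T ⟶ s.H) (x₁ x₂ : T ⟶ X) (h : y ≫ s.w ≫ p = x₁ ≫ p)
    (h' : s.tr y x₁ h ≫ s.w ≫ p = x₂ ≫ p) (h'' : y ≫ s.w ≫ p = x₂ ≫ p) :
    s.tr (s.tr y x₁ h) x₂ h' = s.tr y x₂ h'' := by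
  let z : T ⟶ s.Q := s.hQ.lift (s.hP.lift y x₁ h) x₂ (by
    rw [← Category.assoc, s.hP.lift_fst, h''])
  have hz1 : z ≫ s.m01 = s.hP.lift y x₁ h := s.hQ.lift_fst _ _ _
  have hz2 : z ≫ s.d = x₂ := s.hQ.lift_snd _ _ _
  have h1 : s.hP.lift (s.tr y x₁ h) x₂ h' = z ≫ s.c := by
    apply s.hP.hom_ext
    · rw [s.hP.lift_fst, Category.assoc, s.c_a, ← Category.assoc, hz1, tr]
    · rw [s.hP.lift_snd, Category.assoc, s.c_b, hz2]
  have h2 : s.hP.lift y x₂ h'' = z ≫ s.m02 := by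
    apply s.hP.hom_ext
    · rw [s.hP.lift_fst, Category.assoc, s.m02_a, ← Category.assoc, hz1, s.hP.lift_fst]
    · rw [s.hP.lift_snd, Category.assoc, s.m02_b, hz2]
  rw [tr, h1, Category.assoc, s.c_t, ← Category.assoc, ← h2]
  rfl

theorem tr_nat {T T' : Scheme.{u}} (g : T' ⟶ T) (y : T ⟶ s.H) (x : T ⟶ X) (h : y ≫ s.w ≫ p = x ≫ p)
    (y' : T' ⟶ s.H) (x' : T' ⟶ X) (h' : y' ≫ s.w ≫ p = x' ≫ p) (hy : y' = g ≫ y) (hx : x' = g ≫ x) :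
    s.tr y' x' h' = g ≫ s.tr y x h := by
  subst hy hx
  rw [tr, tr, ← Category.assoc]
  congr 1
  apply s.hP.hom_ext
  · rw [s.hP.lift_fst, Category.assoc, s.hP.lift_fst]
  · rw [s.hP.lift_snd, Category.assoc, s.hP.lift_snd]

theorem cond {T : Scheme.{u}} {x₀ x₁ : T ⟶ X} (h : x₀ ≫ p = x₁ ≫ p) (y : Lifts (Over.mk s.w) x₀) :
    y.1 ≫ s.w ≫ p = x₁ ≫ p := by
  have e : y.1 ≫ s.w = x₀ := y.2
  rw [← Category.assoc, e, h]

/-- transport of lifts -/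
noncomputable def trL {T : Scheme.{u}} {x₀ x₁ : T ⟶ X} (h : x₀ ≫ p = x₁ ≫ p) (y : Lifts (Over.mk s.w) x₀) :
    Lifts (Over.mk s.w) x₁ :=
  ⟨s.tr y.1 x₁ (s.cond h y), s.tr_w _ _ _⟩

theorem trL_trL {T : Scheme.{u}} {x₀ x₁ x₂ : T ⟶ X} (h : x₀ ≫ p = x₁ ≫ p) (h' : x₁ ≫ p = x₂ ≫ p)
    (y : Lifts (Over.mk s.w) x₀) : s.trL h' (s.trL h y) = s.trL (h.trans h') y :=
  Subtype.ext (s.tr_tr _ _ _ _ _ _)

theorem trL_self {T : Scheme.{u}} {x₀ : T ⟶ X} (h : x₀ ≫ p = x₀ ≫ p)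
    (y : Lifts (Over.mk s.w) x₀) : s.trL h y = y :=
  Subtype.ext (s.tr_self _ _ _ y.2)

/-- The descent datum. -/
noncomputable def dd : SchDD p where
  obj := Over.mk s.w
  φ T x₀ x₁ h :=
    { toFun := s.trL h
      invFun := s.trL h.symm
      left_inv := fun y => by rw [trL_trL, trL_self]
      right_inv := fun y => by rw [trL_trL, trL_self] }
  φ_natural T T' g x₀ x₁ h h' v v' hv := s.tr_nat g _ _ _ _ _ _ hv rfl
  φ_self T x v := s.trL_self rfl v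
  φ_comp T x₀ x₁ x₂ h₀₁ h₁₂ v := s.trL_trL h₀₁ h₁₂ v

theorem dd_φ {T : Scheme.{u}} (x₀ x₁ : T ⟶ X) (h : x₀ ≫ p = x₁ ≫ p) (y : Lifts (Over.mk s.w) x₀) :
    (s.dd.φ x₀ x₁ h y).1 = s.hP.lift y.1 x₁ (s.cond h y) ≫ s.t := rfl

end Simp

end K388.SimpDD
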