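import Groth.Agent.Desc.K388.GermSp
import Groth.Agent.Desc.K388.SimpDD
import Groth.Agent.Desc.K388.DDGrpd

/-!
# The descent datum on the spectrum of the ring of functions on a decreasing sequence of opens
-/

set_option autoImplicit false
set_option backward.isDefEq.respectTransparency false
set_option backward.isDefEq.respectTransparency.types false
open CategoryTheory CategoryTheory.Limits AlgebraicGeometry
universe u

namespace K388.GermDD

open _root_.Desc K388.Germ K388.SimpDD K388.DDGrpd Groth.Agent.Desc.StableDD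

variable {X S : Scheme.{u}} {p : X ⟶ S} (D : SchDD p)

/-- pulled back sequence -/
noncomputable def pre {Y Z : Scheme.{u}} (g : Z ⟶ Y) (O : Sq Y) : Sq Z where
  W n := g ⁻¹ᵁ O.W n
  anti _ _ h := g.preimage_mono (O.anti h)

/-- triples `(v, x₁, x₂)` -/
noncomputable abbrev R2 : Scheme.{u} := pullback (src D ≫ D.obj.hom ≫ p) p

/-- `(v, x₁)` -/
noncomputable abbrev m01 : R2 D ⟶ R D := pullback.fst (src D ≫ D.obj.hom ≫ p) p

/-- `x₂` -/
noncomputable abbrev pt2 : R2 D ⟶ X := pullback.snd (src D ≫ D.obj.hom ≫ p) p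

/-- `(v, x₂)` -/
noncomputable def m02 : R2 D ⟶ R D :=
  pullback.lift (m01 D ≫ src D) (pt2 D) (by rw [← pullback.condition, Category.assoc])

theorem m02_src : m02 D ≫ src D = m01 D ≫ src D := pullback.lift_fst _ _ _
theorem m02_pt : m02 D ≫ pt D = pt2 D := pullback.lift_snd _ _ _

/-- `(tr (v, x₁), x₂)` -/
noncomputable def m12 : R2 D ⟶ R D :=
  pullback.lift (m01 D ≫ tgt D) (pt2 D) (by rw [← pullback.condition, Category.assoc, cond'])

theorem m12_src : m12 D ≫ src D = m01 D ≫ tgt D := pullback.lift_fst _ _ _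
theorem m12_pt : m12 D ≫ pt D = pt2 D := pullback.lift_snd _ _ _

theorem m12_tgt : m12 D ≫ tgt D = m02 D ≫ tgt D := by
  rw [comp_tgt, comp_tgt D (m02 D)]
  have h1 : m12 D ≫ src D = tr D (m01 D ≫ src D) (m01 D ≫ pt D) (compat D (m01 D)) :=
    (m12_src D).trans (comp_tgt D _)
  have h2 : ((m01 D ≫ src D) ≫ D.obj.hom) ≫ p = pt2 D ≫ p := by
    rw [← pullback.condition, Category.assoc, Category.assoc]
  rw [tr_congr D h1 (m12_pt D) _ (by rw [tr_hom, ← compat D (m01 D), h2]),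
    tr_tr D _ _ _ _ _ h2, tr_congr D (m02_src D) (m02_pt D) _ h2]

variable (O : Sq D.obj.left)

theorem hsrc : ∀ n, ∃ k, (pre (src D) O).W k ≤ (src D) ⁻¹ᵁ O.W n := fun n => ⟨n, le_rfl⟩

theorem hone : ∀ n, ∃ k, O.W k ≤ (one D) ⁻¹ᵁ (pre (src D) O).W n := fun n => ⟨n, by
  show O.W n ≤ (one D) ⁻¹ᵁ ((src D) ⁻¹ᵁ O.W n)
  rw [← Scheme.Hom.comp_preimage, one_src]
  exact le_rfl⟩

theorem hm01 : ∀ n, ∃ k, (pre (m01 D) (pre (src D) O)).W k ≤ (m01 D) ⁻¹ᵁ (pre (src D) O).W n :=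
  fun n => ⟨n, le_rfl⟩

theorem hm02 : ∀ n, ∃ k, (pre (m01 D) (pre (src D) O)).W k ≤ (m02 D) ⁻¹ᵁ (pre (src D) O).W n := fun n => ⟨n, by
  show (m01 D) ⁻¹ᵁ ((src D) ⁻¹ᵁ O.W n) ≤ (m02 D) ⁻¹ᵁ ((src D) ⁻¹ᵁ O.W n)
  rw [← Scheme.Hom.comp_preimage, ← Scheme.Hom.comp_preimage, m02_src]⟩

theorem hm12 (hstar : ∀ n, ∃ k, (pre (src D) O).W k ≤ (tgt D) ⁻¹ᵁ O.W n) :
    ∀ n, ∃ k, (pre (m01 D) (pre (src D) O)).W k ≤ (m12 D) ⁻¹ᵁ (pre (src D) O).W n := fun n => by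
  obtain ⟨k, hk⟩ := hstar n
  refine ⟨k, ?_⟩
  show (m01 D) ⁻¹ᵁ ((src D) ⁻¹ᵁ O.W k) ≤ (m12 D) ⁻¹ᵁ ((src D) ⁻¹ᵁ O.W n)
  rw [← Scheme.Hom.comp_preimage (m12 D), m12_src, Scheme.Hom.comp_preimage]
  exact (m01 D).preimage_mono hk

/-- The composite index condition. -/
theorem hcomp {Y Z T : Scheme.{u}} {O : Sq Y} {O' : Sq Z} {O'' : Sq T} {g : Z ⟶ Y} {f : T ⟶ Z}
    (h : ∀ n, ∃ k, O'.W k ≤ g ⁻¹ᵁ O.W n) (h' : ∀ n, ∃ k, O''.W k ≤ f ⁻¹ᵁ O'.W n) :
    ∀ n, ∃ k, O''.W k ≤ (f ≫ g) ⁻¹ᵁ O.W n := fun n => by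
  obtain ⟨k, hk⟩ := h n
  obtain ⟨l, hl⟩ := h' k
  exact ⟨l, hl.trans (f.preimage_mono hk)⟩

variable [IsAffine X] [IsAffine S] [Flat p] [QuasiSeparatedSpace D.obj.left]

/-- The simplicial data attached to the sequence. -/
noncomputable def simp (hO : ∀ n, IsCompact (O.W n : Set D.obj.left))
    (hstar : ∀ n, ∃ k, (pre (src D) O).W k ≤ (tgt D) ⁻¹ᵁ O.W n) : Simp p where
  H := sp O
  P := sp (pre (src D) O)
  Q := sp (pre (m01 D) (pre (src D) O))
  w := sX O D.obj.hom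
  a := sm O (pre (src D) O) (src D) (hsrc D O)
  b := sX (pre (src D) O) (pt D)
  hP := by
    have h1 : sX O D.obj.hom ≫ p = sX O (D.obj.hom ≫ p) := sX_comp O _ _
    rw [h1]
    exact isPullback_sp (IsPullback.of_hasPullback (D.obj.hom ≫ p) p) O hO _ (fun n => rfl) _
  t := sm O (pre (src D) O) (tgt D) hstar
  t_w := by
    rw [sm_sX, tgt_hom]
  e := sm (pre (src D) O) O (one D) (hone D O)
  e_a := by
    rw [sm_sm _ _ _ _ (hcomp (hsrc D O) (hone D O)), sm_congr (one_src D) _ (fun n => ⟨n, le_rfl⟩), sm_id]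
  e_b := by
    rw [sm_sX, one_pt]
  e_t := by
    rw [sm_sm _ _ _ _ (hcomp hstar (hone D O)), sm_congr (one_tgt D) _ (fun n => ⟨n, le_rfl⟩), sm_id]
  m01 := sm _ _ (m01 D) (hm01 D O)
  m02 := sm _ _ (m02 D) (hm02 D O)
  c := sm _ _ (m12 D) (hm12 D O hstar)
  d := sX _ (pt2 D)
  hQ := by
    have h1 : sX O D.obj.hom ≫ p = sX O (D.obj.hom ≫ p) := sX_comp O _ _
    rw [h1, sm_sX]
    have h2 : QuasiSeparatedSpace (R D) := by
      have h3 : IsAffineHom p := inferInstance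
      have h4 : IsAffineHom (src D) := src_of D @IsAffineHom h3
      exact quasiSeparatedSpace_of_quasiSeparated (src D)
    have h5 : ∀ n, IsCompact ((pre (src D) O).W n : Set (R D)) := fun n => by
      have h3 : IsAffineHom p := inferInstance
      have h4 : IsAffineHom (src D) := src_of D @IsAffineHom h3
      exact (src D).isCompact_preimage (hO n)
    exact isPullback_sp (IsPullback.of_hasPullback (src D ≫ D.obj.hom ≫ p) p) _ h5 _ (fun n => rfl) _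
  m02_a := by
    rw [sm_sm _ _ _ _ (hcomp (hsrc D O) (hm02 D O)), sm_sm _ _ _ _ (hcomp (hsrc D O) (hm01 D O))]
    exact sm_congr (m02_src D) _ _
  m02_b := by
    rw [sm_sX, m02_pt]
  c_a := by
    rw [sm_sm _ _ _ _ (hcomp (hsrc D O) (hm12 D O hstar)), sm_sm _ _ _ _ (hcomp hstar (hm01 D O))]
    exact sm_congr (m12_src D) _ _
  c_b := by
    rw [sm_sX, m12_pt]
  c_t := by
    rw [sm_sm _ _ _ _ (hcomp hstar (hm12 D O hstar)), sm_sm _ _ _ _ (hcomp hstar (hm02 D O))]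
    exact sm_congr (m12_tgt D) _ _

/-- A stable open contained in all members of the sequence maps to the spectrum, compatibly with transport. -/
theorem hι (V' : D.obj.left.Opens) (h : ∀ n, V' ≤ O.W n) : ∀ n, (⊤ : V'.toScheme.Opens) ≤ V'.ι ⁻¹ᵁ O.W n := fun n x _ =>
  h n ((mem_range_ι V' _).mp ⟨x, rfl⟩)

theorem hT {T : Scheme.{u}} {V' : D.obj.left.Opens} (h : ∀ n, V' ≤ O.W n) (g : T ⟶ D.obj.left) (hg : ∀ t, g t ∈ V') :
    ∀ n, (⊤ : T.Opens) ≤ g ⁻¹ᵁ O.W n := fun n x _ => h n (hg x)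

/-- The morphism of descent data. -/
theorem comm (hO : ∀ n, IsCompact (O.W n : Set D.obj.left))
    (hstar : ∀ n, ∃ k, (pre (src D) O).W k ≤ (tgt D) ⁻¹ᵁ O.W n) (V' : D.obj.left.Opens) (hV' : IsStable D V')
    (h : ∀ n, V' ≤ O.W n) :
    ∃ F : Groth.Agent.Desc.StableDD.restrict D V' hV' ⟶ (simp D O hO hstar).dd,
      F.hom.left = toSp O V'.ι (hι D O V' h) := by
  refine ⟨⟨Over.homMk (toSp O V'.ι (hι D O V' h)) ?_, ?_⟩, rfl⟩
  · exact toSp_sX D.obj.hom V'.ι _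
  · intro T x₀ x₁ hx v w hw
    have hv : (v.1 ≫ V'.ι) ≫ D.obj.hom = x₀ := by rw [Category.assoc]; exact v.2
    have hvm : ∀ t, (v.1 ≫ V'.ι) t ∈ V' := fun t => pushLift_mem v t
    let r : T ⟶ R D := pullback.lift (v.1 ≫ V'.ι) x₁ (by rw [← Category.assoc, hv, hx])
    have hr1 : r ≫ src D = v.1 ≫ V'.ι := pullback.lift_fst _ _ _
    have hr2 : r ≫ pt D = x₁ := pullback.lift_snd _ _ _
    have hrO : ∀ n, (⊤ : T.Opens) ≤ r ⁻¹ᵁ (pre (src D) O).W n := fun n => by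
      show (⊤ : T.Opens) ≤ r ⁻¹ᵁ (src D ⁻¹ᵁ O.W n)
      rw [← Scheme.Hom.comp_preimage, hr1]
      exact hT D O h _ hvm n
    have h1 : (simp D O hO hstar).hP.lift w.1 x₁ ((simp D O hO hstar).cond hx w) =
        toSp (pre (src D) O) r hrO := by
      apply (simp D O hO hstar).hP.hom_ext
      · rw [(simp D O hO hstar).hP.lift_fst, hw]
        show v.1 ≫ toSp O V'.ι _ = toSp (pre (src D) O) r hrO ≫ sm O (pre (src D) O) (src D) (hsrc D O)
        rw [comp_toSp _ _ _ (hT D O h _ hvm), toSp_sm (src D) _ r hrO (by rw [hr1]; exact hT D O h _ hvm)]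
        exact toSp_congr hr1.symm _ _
      · rw [(simp D O hO hstar).hP.lift_snd]
        show x₁ = toSp (pre (src D) O) r hrO ≫ sX (pre (src D) O) (pt D)
        rw [toSp_sX, hr2]
    have h2 := (simp D O hO hstar).dd_φ x₀ x₁ hx w
    rw [h1] at h2
    refine h2.trans ?_
    have h3 : r ≫ tgt D = ((Groth.Agent.Desc.StableDD.restrict D V' hV').φ x₀ x₁ hx v).1 ≫ V'.ι := by
      rw [restrict_φ, φ_eq_tr]
      exact lift_tgt D _ _ _
    have h4 : ∀ t, (r ≫ tgt D) t ∈ V' := fun t => by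
      rw [h3]
      exact (mem_range_ι V' _).mp ⟨_, rfl⟩
    show toSp (pre (src D) O) r hrO ≫ sm O (pre (src D) O) (tgt D) hstar = _ ≫ toSp O V'.ι _
    rw [toSp_sm _ _ _ _ (hT D O h _ h4), comp_toSp _ _ _ (by rw [← h3]; exact hT D O h _ h4)]
    exact toSp_congr h3 _ _

end K388.GermDD
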