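import Groth.Agent.Desc.K388.GermBC

/-!
# The spectrum of the ring of functions on a decreasing sequence of opens
-/

set_option autoImplicit false
open CategoryTheory CategoryTheory.Limits AlgebraicGeometry
universe u

namespace K388.Germ

variable {X Y Z T S : Scheme.{u}}

/-- the spectrum of the ring of functions -/
noncomputable abbrev sp (O : Sq Y) : Scheme.{u} := Spec (CommRingCat.of (G O))



/-- functoriality -/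
noncomputable def sm (O : Sq Y) (O' : Sq T) (g : T ⟶ Y) (h : ∀ n, ∃ k, O'.W k ≤ g ⁻¹ᵁ O.W n) : sp O' ⟶ sp O :=
  Spec.map (mapC O O' g h)

/-- the structure morphism to an affine scheme -/
noncomputable def sX (O : Sq Y) [IsAffine X] (f : Y ⟶ X) : sp O ⟶ X := Spec.map (strC O f) ≫ X.isoSpec.inv

/-- the tautological morphism -/
noncomputable def toSp (O : Sq Y) (g : T ⟶ Y) (h : ∀ n, (⊤ : T.Opens) ≤ g ⁻¹ᵁ O.W n) : T ⟶ sp O :=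
  T.toSpecΓ ≫ Spec.map (CommRingCat.ofHom (ev O g h))

theorem sm_sm {O : Sq Y} {O' : Sq T} {O'' : Sq Z} (g : T ⟶ Y) (f : Z ⟶ T)
    (h : ∀ n, ∃ k, O'.W k ≤ g ⁻¹ᵁ O.W n) (h' : ∀ n, ∃ k, O''.W k ≤ f ⁻¹ᵁ O'.W n)
    (h'' : ∀ n, ∃ k, O''.W k ≤ (f ≫ g) ⁻¹ᵁ O.W n) :
    sm O' O'' f h' ≫ sm O O' g h = sm O O'' (f ≫ g) h'' := by
  rw [sm, sm, sm, ← Spec.map_comp]
  congr 1
  ext x
  exact congrArg (fun e => e x) (map_map g f h h' h'')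

theorem sm_congr {O : Sq Y} {O' : Sq T} {g g' : T ⟶ Y} (hg : g = g')
    (h : ∀ n, ∃ k, O'.W k ≤ g ⁻¹ᵁ O.W n) (h' : ∀ n, ∃ k, O'.W k ≤ g' ⁻¹ᵁ O.W n) :
    sm O O' g h = sm O O' g' h' := by
  subst hg; rfl

theorem sm_id (O : Sq Y) (h : ∀ n, ∃ k, O.W k ≤ (𝟙 Y : Y ⟶ Y) ⁻¹ᵁ O.W n) : sm O O (𝟙 Y) h = 𝟙 _ := by
  rw [sm, mapC, map_id]
  exact Spec.map_id _

theorem sm_sX {O : Sq Y} {O' : Sq T} (g : T ⟶ Y) (h : ∀ n, ∃ k, O'.W k ≤ g ⁻¹ᵁ O.W n) [IsAffine X] (f : Y ⟶ X) :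
    sm O O' g h ≫ sX O f = sX O' (g ≫ f) := by
  rw [sm, sX, sX, ← Category.assoc, ← Spec.map_comp, strC_mapC]

theorem sX_comp (O : Sq Y) [IsAffine X] [IsAffine S] (f : Y ⟶ X) (g : X ⟶ S) : sX O f ≫ g = sX O (f ≫ g) := by
  rw [sX, sX, ← appTop_strC, Spec.map_comp, Category.assoc, Category.assoc, Scheme.isoSpec_inv_naturality]

theorem toSp_congr {O : Sq Y} {g g' : T ⟶ Y} (hg : g = g') (h : ∀ n, (⊤ : T.Opens) ≤ g ⁻¹ᵁ O.W n)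
    (h' : ∀ n, (⊤ : T.Opens) ≤ g' ⁻¹ᵁ O.W n) : toSp O g h = toSp O g' h' := by
  subst hg; rfl

theorem toSp_sm {O : Sq Y} {O' : Sq T} (g : T ⟶ Y) (h : ∀ n, ∃ k, O'.W k ≤ g ⁻¹ᵁ O.W n) (f : Z ⟶ T)
    (h' : ∀ n, (⊤ : Z.Opens) ≤ f ⁻¹ᵁ O'.W n) (h'' : ∀ n, (⊤ : Z.Opens) ≤ (f ≫ g) ⁻¹ᵁ O.W n) :
    toSp O' f h' ≫ sm O O' g h = toSp O (f ≫ g) h'' := by
  rw [toSp, toSp, sm, Category.assoc, ← Spec.map_comp]
  congr 2
  ext x
  exact congrArg (fun e => e x) (ev_map g h f h' h'')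

theorem toSp_sX {O : Sq Y} [IsAffine X] (f : Y ⟶ X) (g : T ⟶ Y)
    (h : ∀ n, (⊤ : T.Opens) ≤ g ⁻¹ᵁ O.W n) : toSp O g h ≫ sX O f = g ≫ f := by
  have h1 : strC O f ≫ CommRingCat.ofHom (ev O g h) = (g ≫ f).appTop := by
    have h2 := ev_str (O := O) f g h
    rw [Scheme.Hom.appTop, Scheme.Hom.app_eq_appLE]
    ext x
    exact congrArg (fun e => e x) h2
  rw [toSp, sX, Category.assoc, ← Category.assoc (Spec.map _), ← Spec.map_comp, h1,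
    ← Category.assoc, ← Scheme.toSpecΓ_naturality, Category.assoc]
  have h3 : X.toSpecΓ ≫ X.isoSpec.inv = 𝟙 _ := X.isoSpec.hom_inv_id
  rw [h3, Category.comp_id]

theorem comp_toSp {O : Sq Y} (g : T ⟶ Y) (h : ∀ n, (⊤ : T.Opens) ≤ g ⁻¹ᵁ O.W n) (f : Z ⟶ T)
    (h' : ∀ n, (⊤ : Z.Opens) ≤ (f ≫ g) ⁻¹ᵁ O.W n) : f ≫ toSp O g h = toSp O (f ≫ g) h' := by
  rw [toSp, toSp, ← Category.assoc, Scheme.toSpecΓ_naturality, Category.assoc, ← Spec.map_comp]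
  congr 2
  ext x
  exact congrArg (fun e => e x) (appTop_ev g h f h')

variable {b : Z ⟶ Y} {c : Z ⟶ X} {y : Y ⟶ S} {p : X ⟶ S}

/-- Flat base change for `sp`. -/
theorem isPullback_sp (H : IsPullback b c y p) [Flat p] [IsAffine X] [IsAffine S] [QuasiSeparatedSpace Y]
    (O : Sq Y) (hO : ∀ n, IsCompact (O.W n : Set Y)) (O' : Sq Z) (hO' : ∀ n, O'.W n = b ⁻¹ᵁ O.W n)
    (hb : ∀ n, ∃ k, O'.W k ≤ b ⁻¹ᵁ O.W n) :
    IsPullback (sm O O' b hb) (sX O' c) (sX O y) p := by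
  have h1 := isPullback_SpecMap_of_isPushout _ _ _ _ (isPushout_germ H O hO O' hO')
  refine h1.of_iso (Iso.refl _) (Iso.refl _) X.isoSpec.symm S.isoSpec.symm ?_ ?_ ?_ ?_
  · rw [Iso.refl_hom, Iso.refl_hom, Category.id_comp, Category.comp_id]
    rfl
  · rw [Iso.refl_hom, Category.id_comp]
    rfl
  · rw [Iso.refl_hom, Category.id_comp]
    rfl
  · exact (Scheme.isoSpec_inv_naturality p)

end K388.Germ
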