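import Groth.Agent.Desc.ZarGlue
import Groth.Agent.Desc.LqfQAff
import Groth.Agent.Desc.StableDD
import Groth.Agent.Desc.AffineEff
import Groth.Agent.Desc.K388.DDGrpd
import Groth.Agent.S1134
import Mathlib.AlgebraicGeometry.EffectiveEpi

/-!
# Effectivity of descent data is local on the base and can be checked after refining the cover
-/

set_option autoImplicit false
set_option backward.isDefEq.respectTransparency false
set_option backward.isDefEq.respectTransparency.types false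
open CategoryTheory CategoryTheory.Limits AlgebraicGeometry Opposite
universe u

namespace K388.LocEff

open _root_.Desc Groth.Agent.Desc.SecFunctor Groth.Agent.Desc.SecPresheaf
  Groth.Agent.Desc.SecDescent Groth.Agent.Picfga.OverRep Groth.Agent.Desc.ZarGlue Groth.Agent.Desc.StableDD
  K388.DDGrpd

variable {X S : Scheme.{u}} {p : X ⟶ S}

/-- The sections of a descent datum satisfy the sheaf condition for flat surjective quasi-compact morphisms. -/
theorem isPSheaf_of_fpqc (D : SchDD p) {X₀ S₀ : Scheme.{u}} (p₀ : X₀ ⟶ S₀) [Flat p₀] [Surjective p₀] [QuasiCompact p₀]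
    (j : S₀ ⟶ S) : IsPSheaf p₀ (restr j (secFunctor D)) := by
  intro T
  apply IsDesc.restr
  apply isDesc_secFunctor
  intro Z z
  have h1 : Flat (pullback.snd p₀ T.hom) := inferInstance
  have h2 : Surjective (pullback.snd p₀ T.hom) := inferInstance
  have h3 : QuasiCompact (pullback.snd p₀ T.hom) := inferInstance
  have h4 : EffectiveEpi (pullback.snd (pullback.snd p₀ T.hom) z) := inferInstance
  exact h4

/-- Effectivity can be checked locally on the base, after refining the cover. -/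
theorem effective_of_local (D : SchDD p) (P Q : MorphismProperty Scheme.{u}) [P.IsStableUnderBaseChange]
    (hD : P D.obj.hom)
    (hloc : ∀ s : S, ∃ (S₀ : S.Opens) (X₀ : Scheme.{u}) (a : X₀ ⟶ X) (p₀ : X₀ ⟶ S₀.toScheme),
      s ∈ S₀ ∧ IsAffineOpen S₀ ∧ IsAffine X₀ ∧ p₀ ≫ S₀.ι = a ≫ p ∧ Flat p₀ ∧ Surjective p₀ ∧ Q p₀)
    (haff : ∀ (X₀ S₀ : Scheme.{u}) (p₀ : X₀ ⟶ S₀) (D₀ : SchDD p₀), IsAffine X₀ → IsAffine S₀ → Flat p₀ →
      Surjective p₀ → Q p₀ → P D₀.obj.hom → ∃ U : Over S₀, Nonempty ((toDD p₀).obj U ≅ D₀)) :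
    ∃ U : Over S, Nonempty ((toDD p).obj U ≅ D) := by
  have key : ∀ s : S, ∃ (S₀ : S.Opens) (U : Over S₀.toScheme), s ∈ S₀ ∧
      Nonempty ((restr S₀.ι (secFunctor D)).RepresentableBy U) := by
    intro s
    obtain ⟨S₀, X₀, a, p₀, hs, hS₀, hX₀, ha, h1, h2, h3⟩ := hloc s
    have hS₀' : IsAffine S₀.toScheme := hS₀
    let e := pullRepSq (p' := p₀) (q := S₀.ι) (a := a) ha (restrRep D)
    obtain ⟨U, ⟨i⟩⟩ := haff X₀ S₀.toScheme p₀ (ofPresheaf e) hX₀ hS₀' h1 h2 h3 (P.pullback_snd _ _ hD)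
    have h4 : (toDD p₀).Full := Groth.Agent.Desc.AffineEff.toDD_full p₀
    have h5 : (toDD p₀).Faithful := Groth.Agent.Desc.AffineEff.toDD_faithful p₀
    exact ⟨S₀, U, hs, ⟨representableByOfEffective e (isPSheaf_of_fpqc D p₀ S₀.ι) i⟩⟩
  choose W U hW e using key
  obtain ⟨H, ⟨r⟩, -⟩ := exists_rep_of_openCover W (fun s => ⟨s, hW s⟩) U (fun s => (e s).some)
    (Groth.Agent.Desc.ZarSec.isZarSheaf_secFunctor D)
  exact ⟨H, effective_of_representableBy r⟩

/-- An affine scheme mapping to `U` with surjective composite to the quasi-compact `S`. -/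
theorem exists_affine_cover {U S : Scheme.{u}} (g : U ⟶ S) [Flat g] [LocallyOfFinitePresentation g]
    [Surjective g] [CompactSpace S] :
    ∃ (U' : Scheme.{u}) (q : U' ⟶ U), IsAffine U' ∧ Flat (q ≫ g) ∧
      LocallyOfFinitePresentation (q ≫ g) ∧ Surjective (q ≫ g) := by
  have h : ∀ x : S, ∃ (u : U) (W : U.Opens), g u = x ∧ u ∈ W ∧ IsAffineOpen W := by
    intro x
    obtain ⟨u, hu⟩ := g.surjective x
    obtain ⟨W, hW, hxW, -⟩ := exists_isAffineOpen_mem_and_subset (X := U) (U := ⊤) (x := u) trivial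
    exact ⟨u, W, hu, hxW, hW⟩
  choose w W hw hwW hW using h
  obtain ⟨t, ht⟩ := isCompact_univ.elim_finite_subcover (fun x : S => g '' (W x : Set U))
    (fun x => g.isOpenMap _ (W x).2) (fun x _ => Set.mem_iUnion.2 ⟨x, w x, hwW x, hw x⟩)
  let Y : t → Scheme.{u} := fun x => (W x.1 : Scheme.{u})
  have hY : ∀ x, IsAffine (Y x) := fun x => hW x.1
  let q : (∐ Y) ⟶ U := Sigma.desc (fun x => (W x.1).ι)
  have hq1 : Flat q := IsZariskiLocalAtSource.sigmaDesc (P := (@Flat : MorphismProperty Scheme.{u})) fun x => inferInstance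
  have hq2 : LocallyOfFinitePresentation q :=
    IsZariskiLocalAtSource.sigmaDesc (P := (@LocallyOfFinitePresentation : MorphismProperty Scheme.{u})) fun x => inferInstance
  refine ⟨∐ Y, q, inferInstance, inferInstance, inferInstance, ⟨fun x => ?_⟩⟩
  obtain ⟨y, hy, hxy⟩ := Set.mem_iUnion₂.1 (ht (Set.mem_univ x))
  obtain ⟨u, hu, hux⟩ := hxy
  refine ⟨Sigma.ι Y ⟨y, hy⟩ ⟨u, hu⟩, ?_⟩
  have e : Sigma.ι Y ⟨y, hy⟩ ≫ q = (W y).ι := Sigma.ι_desc _ _
  have e' : (Sigma.ι Y ⟨y, hy⟩ ≫ q ≫ g) = (W y).ι ≫ g := by rw [← Category.assoc, e]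
  have e'' := congrArg (fun z : (W y : Scheme.{u}) ⟶ S => z ⟨u, hu⟩) e'
  exact e''.trans hux

/-- Effectivity along a flat, surjective, locally finitely presented morphism is reduced to the affine case. -/
theorem effective_of_fppf [Flat p] [Surjective p] [LocallyOfFinitePresentation p] (D : SchDD p)
    (P : MorphismProperty Scheme.{u}) [P.IsStableUnderBaseChange] (hD : P D.obj.hom)
    (haff : ∀ (X₀ S₀ : Scheme.{u}) (p₀ : X₀ ⟶ S₀) (D₀ : SchDD p₀), IsAffine X₀ → IsAffine S₀ → Flat p₀ →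
      Surjective p₀ → LocallyOfFinitePresentation p₀ → P D₀.obj.hom →
      ∃ U : Over S₀, Nonempty ((toDD p₀).obj U ≅ D₀)) :
    ∃ U : Over S, Nonempty ((toDD p).obj U ≅ D) := by
  refine effective_of_local D P @LocallyOfFinitePresentation hD (fun s => ?_) haff
  obtain ⟨S₀, hS₀, hs, -⟩ := exists_isAffineOpen_mem_and_subset (X := S) (U := ⊤) (x := s) trivial
  have hS₀' : IsAffine S₀.toScheme := hS₀
  have H : IsPullback (p ⁻¹ᵁ S₀).ι (p ∣_ S₀) p S₀.ι := (isPullback_morphismRestrict p S₀).flip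
  have hsurj : Surjective (p ∣_ S₀) := MorphismProperty.of_isPullback H ‹Surjective p›
  have hflat : Flat (p ∣_ S₀) := MorphismProperty.of_isPullback H ‹Flat p›
  have hlfp : LocallyOfFinitePresentation (p ∣_ S₀) :=
    MorphismProperty.of_isPullback H ‹LocallyOfFinitePresentation p›
  obtain ⟨X₀, q, h1, h2, h3, h4⟩ := exists_affine_cover (p ∣_ S₀)
  exact ⟨S₀, X₀, q ≫ (p ⁻¹ᵁ S₀).ι, q ≫ (p ∣_ S₀), hs, hS₀, h1, by
    rw [Category.assoc, Category.assoc, H.w], h2, h4, h3⟩

end K388.LocEff
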