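import Groth.Agent.Desc.K388.LocEff

/-!
# Effectivity of descent data which are separated and locally quasi-finite
-/

set_option autoImplicit false
set_option backward.isDefEq.respectTransparency false
set_option backward.isDefEq.respectTransparency.types false
open CategoryTheory CategoryTheory.Limits AlgebraicGeometry Opposite
universe u

namespace K388.LqfEff

open _root_.Desc Groth.Agent.Desc.SecFunctor Groth.Agent.Desc.StableDD K388.DDGrpd

variable {X S : Scheme.{u}} {p : X ⟶ S}

/-- The composite of two composable arrows. -/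
theorem exists_cmp (D : SchDD p) (r r' : R D) (h : src D r' = tgt D r) :
    ∃ r'' : R D, src D r'' = src D r ∧ tgt D r'' = tgt D r' := by
  obtain ⟨z, hz1, hz2⟩ := Scheme.Pullback.exists_preimage_pullback (f := src D) (g := tgt D) r' r h
  have h0 := pullback.condition (f := src D) (g := tgt D)
  have h1 := lift_cmp_src D _ _ h0
  have h2 := lift_cmp_tgt D _ _ h0
  refine ⟨(pullback.lift _ _ h0 ≫ cmp D) z, ?_, ?_⟩
  · refine (congrArg (fun f : pullback (src D) (tgt D) ⟶ D.obj.left => f z) h1).trans ?_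
    exact congrArg (src D) hz2
  · refine (congrArg (fun f : pullback (src D) (tgt D) ⟶ D.obj.left => f z) h2).trans ?_
    exact congrArg (tgt D) hz1

theorem exists_inve (D : SchDD p) (r : R D) : ∃ r' : R D, src D r' = tgt D r ∧ tgt D r' = src D r :=
  ⟨inve D r, congrArg (fun f : R D ⟶ D.obj.left => f r) (inve_src D),
    congrArg (fun f : R D ⟶ D.obj.left => f r) (inve_tgt D)⟩

theorem exists_one (D : SchDD p) (v : D.obj.left) : ∃ r : R D, src D r = v ∧ tgt D r = v :=
  ⟨one D v, congrArg (fun f : D.obj.left ⟶ D.obj.left => f v) (one_src D),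
    congrArg (fun f : D.obj.left ⟶ D.obj.left => f v) (one_tgt D)⟩

theorem isStable_of_forall {D : SchDD p} {W : D.obj.left.Opens}
    (h : ∀ r : R D, src D r ∈ W → tgt D r ∈ W) : IsStable D W := by
  rw [isStable_iff]
  ext r
  refine ⟨fun hr => h r hr, fun hr => ?_⟩
  obtain ⟨r', h1, h2⟩ := exists_inve D r
  have h3 := h r' (by rw [h1]; exact hr)
  rw [h2] at h3
  exact h3

/-- The saturation of an open. -/
noncomputable def sat (D : SchDD p) [Flat p] [LocallyOfFinitePresentation p] (V₀ : D.obj.left.Opens) :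
    D.obj.left.Opens :=
  ⟨tgt D '' (src D ⁻¹ᵁ V₀ : (R D).Opens), by
    have h5 : Flat (tgt D) := tgt_of D @Flat ‹_›
    have h6 : LocallyOfFinitePresentation (tgt D) := tgt_of D @LocallyOfFinitePresentation ‹_›
    exact (tgt D).isOpenMap _ (src D ⁻¹ᵁ V₀).2⟩

theorem isStable_sat (D : SchDD p) [Flat p] [LocallyOfFinitePresentation p] (V₀ : D.obj.left.Opens) :
    IsStable D (sat D V₀) := by
  refine isStable_of_forall fun r' hr' => ?_
  obtain ⟨r, hr, hrr⟩ := hr'
  obtain ⟨r'', h1, h2⟩ := exists_cmp D r r' hrr.symm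
  refine ⟨r'', ?_, h2⟩
  show src D r'' ∈ V₀
  rw [h1]
  exact hr

theorem le_sat (D : SchDD p) [Flat p] [LocallyOfFinitePresentation p] (V₀ : D.obj.left.Opens) :
    V₀ ≤ sat D V₀ := by
  intro v hv
  obtain ⟨r, h1, h2⟩ := exists_one D v
  refine ⟨r, ?_, h2⟩
  show src D r ∈ V₀
  rw [h1]
  exact hv

theorem isCompact_sat (D : SchDD p) [Flat p] [LocallyOfFinitePresentation p] [QuasiCompact p] (V₀ : D.obj.left.Opens)
    (hV : IsCompact (V₀ : Set D.obj.left)) : IsCompact (sat D V₀ : Set D.obj.left) := by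
  have h5 : QuasiCompact (src D) := src_of D @QuasiCompact ‹_›
  exact ((src D).isCompact_preimage hV).image (tgt D).continuous

/-- The affine case. -/
theorem effective_of_affine [IsAffine X] [IsAffine S] [Flat p] [Surjective p] [LocallyOfFinitePresentation p]
    (D : SchDD p) [IsSeparated D.obj.hom] [LocallyQuasiFinite D.obj.hom] [LocallyOfFiniteType D.obj.hom] :
    ∃ U : Over S, Nonempty ((toDD p).obj U ≅ D) := by
  have h8 : (toDD p).Full := Groth.Agent.Desc.AffineEff.toDD_full p
  have h9 : (toDD p).Faithful := Groth.Agent.Desc.AffineEff.toDD_faithful p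
  have hq : ∀ T : Over S, Topology.IsQuotientMap (pullback.snd p T.hom).base :=
    fun T => Flat.isQuotientMap_of_surjective _
  refine effective_of_cover D hq (fun O : D.obj.left.affineOpens => sat D O.1)
    (fun O => isStable_sat D O.1) (fun v => ?_) fun O => ?_
  · obtain ⟨O, hO, hv, -⟩ := exists_isAffineOpen_mem_and_subset (X := D.obj.left) (U := ⊤) (x := v) trivial
    exact ⟨⟨O, hO⟩, le_sat D O hv⟩
  refine Groth.Agent.S1134.result p _ ?_
  have h1 : CompactSpace (sat D O.1).toScheme :=
    isCompact_iff_compactSpace.mp (isCompact_sat D O.1 O.2.isCompact)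
  have h2 : IsSeparated (Groth.Agent.Desc.StableDD.restrict D (sat D O.1) (isStable_sat D O.1)).obj.hom := by
    show IsSeparated ((sat D O.1).ι ≫ D.obj.hom)
    infer_instance
  have h3 : LocallyQuasiFinite (Groth.Agent.Desc.StableDD.restrict D (sat D O.1) (isStable_sat D O.1)).obj.hom := by
    show LocallyQuasiFinite ((sat D O.1).ι ≫ D.obj.hom)
    infer_instance
  have h4 : LocallyOfFiniteType (Groth.Agent.Desc.StableDD.restrict D (sat D O.1) (isStable_sat D O.1)).obj.hom := by
    show LocallyOfFiniteType ((sat D O.1).ι ≫ D.obj.hom)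
    infer_instance
  have h5 : QuasiCompact (Groth.Agent.Desc.StableDD.restrict D (sat D O.1) (isStable_sat D O.1)).obj.hom := by
    show QuasiCompact ((sat D O.1).ι ≫ D.obj.hom)
    have h6 : CompactSpace (sat D O.1).toScheme := h1
    exact quasiCompact_of_compactSpace ((sat D O.1).ι ≫ D.obj.hom)
  exact Groth.Agent.Desc.LqfQAff.isQuasiAffine_of_locallyQuasiFinite _

/-- separated, locally quasi-finite and locally of finite type -/
abbrev Slq : MorphismProperty Scheme.{u} := @IsSeparated ⊓ @LocallyQuasiFinite ⊓ @LocallyOfFiniteType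

theorem effective [Flat p] [Surjective p] [LocallyOfFinitePresentation p]
    (D : SchDD p) [IsSeparated D.obj.hom] [LocallyQuasiFinite D.obj.hom] [LocallyOfFiniteType D.obj.hom] :
    ∃ U : Over S, Nonempty ((toDD p).obj U ≅ D) := by
  refine K388.LocEff.effective_of_fppf D Slq ⟨⟨‹_›, ‹_›⟩, ‹_›⟩ ?_
  rintro X₀ S₀ p₀ D₀ hX hS h1 h2 h3 ⟨⟨h4, h5⟩, h6⟩
  have h4' : IsSeparated D₀.obj.hom := h4
  have h5' : LocallyQuasiFinite D₀.obj.hom := h5
  have h6' : LocallyOfFiniteType D₀.obj.hom := h6
  exact effective_of_affine D₀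

end K388.LqfEff
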