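import Mathlib.AlgebraicGeometry.Sites.MorphismProperty
import Mathlib.AlgebraicGeometry.Morphisms.OpenImmersion
import Mathlib.AlgebraicGeometry.Morphisms.Etale
import Mathlib.AlgebraicGeometry.Morphisms.UniversallyOpen
import Mathlib.AlgebraicGeometry.Sites.Fpqc
import Mathlib.AlgebraicGeometry.Sites.Etale
import Mathlib.CategoryTheory.MorphismProperty.Local

/-!
# The largest open on which a source-local property holds
-/

set_option autoImplicit false
set_option backward.isDefEq.respectTransparency false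
set_option backward.isDefEq.respectTransparency.types false
open CategoryTheory CategoryTheory.Limits AlgebraicGeometry
universe u

namespace K388.SourceOpen

theorem exists_largest (Q : MorphismProperty Scheme.{u}) [Q.IsStableUnderBaseChange] [Q.IsStableUnderComposition]
    (hQ : ∀ {X Y : Scheme.{u}} (f : X ⟶ Y) [IsOpenImmersion f], Q f)
    (hopen : ∀ {X Y : Scheme.{u}} (f : X ⟶ Y), Q f → IsOpenMap f)
    (P : MorphismProperty Scheme.{u}) [P.IsLocalAtSource (Scheme.precoverage Q)] {X Y : Scheme.{u}} (f : X ⟶ Y) :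
    ∃ W : X.Opens, (P (W.ι ≫ f) ∧ ∀ W' : X.Opens, P (W'.ι ≫ f) → W' ≤ W) ∧
      ∀ (X' : Scheme.{u}) (g : X' ⟶ X) (_ : Q g) (V : X'.Opens),
        (P (V.ι ≫ g ≫ f) ∧ ∀ V' : X'.Opens, P (V'.ι ≫ g ≫ f) → V' ≤ V) → V = g ⁻¹ᵁ W := by
  let I := {W' : X.Opens // P (W'.ι ≫ f)}
  let W : X.Opens := ⨆ i : I, i.1
  have hle : ∀ W' : X.Opens, P (W'.ι ≫ f) → W' ≤ W := fun W' h => le_iSup (fun i : I => i.1) ⟨W', h⟩
  have hW : P (W.ι ≫ f) := by
    have hR : Presieve.ofArrows (fun i : I => (i.1 : Scheme.{u})) (fun i => X.homOfLE (hle i.1 i.2)) ∈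
        Scheme.precoverage Q W := by
      rw [Scheme.ofArrows_mem_precoverage_iff]
      refine ⟨fun x => ?_, fun i => hQ _⟩
      have hx : x.1 ∈ W := x.2
      obtain ⟨i, hi⟩ := TopologicalSpace.Opens.mem_iSup.1 hx
      refine ⟨i, ⟨x.1, hi⟩, ?_⟩
      apply Subtype.ext
      have h1 := congrArg (fun φ : (i.1 : Scheme.{u}) ⟶ X => φ ⟨x.1, hi⟩) (X.homOfLE_ι (hle i.1 i.2))
      exact h1
    refine MorphismProperty.IsLocalAtSource.of_forall_comp hR ?_
    rintro _ _ ⟨i⟩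
    rw [← Category.assoc, Scheme.homOfLE_ι]
    exact i.2
  refine ⟨W, ⟨hW, hle⟩, fun X' g hg V ⟨hV, hmax⟩ => le_antisymm ?_ (hmax _ ?_)⟩
  · have hVg : Q (V.ι ≫ g) := Q.comp_mem _ _ (hQ _) hg
    let O : X.Opens := ⟨Set.range (V.ι ≫ g), (hopen _ hVg).isOpen_range⟩
    have hVO : V ≤ g ⁻¹ᵁ O := fun x hx => ⟨⟨x, hx⟩, rfl⟩
    have hO : P (O.ι ≫ f) := by
      have hq : Q (g.resLE O V hVO) := by
        have h1 : Q (g ∣_ O) := MorphismProperty.of_isPullback (isPullback_morphismRestrict g O).flip hg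
        exact Q.comp_mem _ _ (hQ _) h1
      have hR : Presieve.singleton (g.resLE O V hVO) ∈ Scheme.precoverage Q O := by
        rw [Scheme.singleton_mem_precoverage_iff]
        refine ⟨fun x => ?_, hq⟩
        obtain ⟨y, hy⟩ : x.1 ∈ Set.range (V.ι ≫ g) := x.2
        refine ⟨y, ?_⟩
        apply Subtype.ext
        rw [Scheme.Hom.coe_resLE_apply]
        exact hy
      refine MorphismProperty.IsLocalAtSource.of_forall_comp hR ?_
      rintro _ _ ⟨⟩
      rw [← Category.assoc, Scheme.Hom.resLE_comp_ι, Category.assoc]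
      exact hV
    exact hVO.trans fun x hx => hle O hO hx
  · have h1 : Q (g ∣_ W) := MorphismProperty.of_isPullback (isPullback_morphismRestrict g W).flip hg
    have h2 : (g ⁻¹ᵁ W).ι ≫ g ≫ f = (g ∣_ W) ≫ W.ι ≫ f := by
      rw [← Category.assoc, ← morphismRestrict_ι, Category.assoc]
    rw [h2]
    have hR : Presieve.ofArrows (fun b : Bool => bif b then (W : Scheme.{u}) else (g ⁻¹ᵁ W : Scheme.{u}))
        (fun b => match b with
          | true => 𝟙 (W : Scheme.{u})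
          | false => g ∣_ W) ∈ Scheme.precoverage Q W := by
      rw [Scheme.ofArrows_mem_precoverage_iff]
      refine ⟨fun x => ⟨true, x, rfl⟩, fun b => ?_⟩
      cases b
      · exact h1
      · exact hQ (𝟙 (W : Scheme.{u}))
    exact MorphismProperty.IsLocalAtSource.comp hR _ (Presieve.ofArrows.mk false) hW

end K388.SourceOpen

namespace K388.SourceOpen

theorem exists_largest_etale (P : MorphismProperty Scheme.{u}) [P.IsLocalAtSource (Scheme.precoverage @Etale)]
    {X Y : Scheme.{u}} (f : X ⟶ Y) :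
    ∃ W : X.Opens, (P (W.ι ≫ f) ∧ ∀ W' : X.Opens, P (W'.ι ≫ f) → W' ≤ W) ∧
      ∀ (X' : Scheme.{u}) (g : X' ⟶ X) (_ : Etale g) (V : X'.Opens),
        (P (V.ι ≫ g ≫ f) ∧ ∀ V' : X'.Opens, P (V'.ι ≫ g ≫ f) → V' ≤ V) → V = g ⁻¹ᵁ W :=
  exists_largest @Etale (fun f _ => inferInstance) (fun f (hf : Etale f) => f.isOpenMap) P f

theorem exists_largest_fppf (P : MorphismProperty Scheme.{u})
    [P.IsLocalAtSource (Scheme.precoverage (@Flat ⊓ @LocallyOfFinitePresentation))]
    {X Y : Scheme.{u}} (f : X ⟶ Y) :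
    ∃ W : X.Opens, (P (W.ι ≫ f) ∧ ∀ W' : X.Opens, P (W'.ι ≫ f) → W' ≤ W) ∧
      ∀ (X' : Scheme.{u}) (g : X' ⟶ X) (_ : Flat g ∧ LocallyOfFinitePresentation g) (V : X'.Opens),
        (P (V.ι ≫ g ≫ f) ∧ ∀ V' : X'.Opens, P (V'.ι ≫ g ≫ f) → V' ≤ V) → V = g ⁻¹ᵁ W :=
  exists_largest (@Flat ⊓ @LocallyOfFinitePresentation) (fun f _ => ⟨inferInstance, inferInstance⟩) (fun f hf => by
      have := hf.1
      have := hf.2
      exact f.isOpenMap) P f

end K388.SourceOpen
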